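import Cfsg.Agent.Lib.GorensteinWalter.Four.Plane.Torus

/-!
# Gorenstein–Walter, section 3 for `|S| = 4`: an abelian normal subgroup meeting `D`

If an elementary abelian `r`-subgroup of `O`, normal in `C(t)`, meets `D`, then one of them is a plane
`⟨x, τ⟩` with `x ∈ D` and `τ` inverted by `a`; then `⟨x⟩` is a line with at most `r` conjugates.
-/

set_option autoImplicit false
set_option linter.unusedSectionVars false
set_option linter.style.haveILetI false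

namespace Cfsg.Agent.Lib.GorensteinWalter.Four.Plane

open Cfsg.Agent.Lib.Fusion.Dihedral

universe u

variable {G : Type u} [Group G] [Finite G] {V : Subgroup G} {t a : G}

/-- An elementary abelian `r`-subgroup of `O` normalised by `C(t)`. -/
structure ElemSub (t a : G) (r : ℕ) (K : Subgroup G) : Prop extends InvSub t a K where
  comm : ∀ k ∈ K, ∀ l ∈ K, k * l = l * k
  exponent : ∀ k ∈ K, k ^ r = 1

variable (h : FourSetting V t a)
include h

section

variable {r : ℕ} [hr : Fact r.Prime] {K : Subgroup G}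

theorem orderOf_elem {k : G} (hK : ElemSub t a r K) (hk : k ∈ K) (hk1 : k ≠ 1) : orderOf k = r :=
  orderOf_eq_prime (hK.exponent k hk) hk1

theorem exists_inverted_generator (hMK : PropModelKlein.{u}) (hrd : r ∣ Nat.card (coreV V))
    (hK : ElemSub t a r K) {x : G} (hx : x ∈ K) (hx1 : x ≠ 1) (hxa : a * x = x * a) :
    ∃ τ ∈ K, τ ≠ 1 ∧ a * τ * a⁻¹ = τ⁻¹ ∧
      (∀ l ∈ K, a * l * a⁻¹ = l⁻¹ → l ∈ Subgroup.zpowers τ) ∧
      ∀ k ∈ K, ∃ c ∈ K, a * c = c * a ∧ ∃ i : ℕ, k = c * τ ^ i := by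
  have hxD : x ∈ coreV V := (mem_core_iff h).2 ⟨hK.le hx, hxa⟩
  obtain ⟨τ, hτ, hτ1, hτi⟩ : ∃ τ ∈ K, τ ≠ 1 ∧ a * τ * a⁻¹ = τ⁻¹ := by
    by_contra hno
    refine not_central h hxD hx1 fun o ho => commute_of_fixed h hK.toInvSub (fun k hk => ?_) o ho x hx
    by_contra hmov
    exact hno (exists_inverted (ctx h).a_sq hK.conj_a hk hmov)
  have hl : ∀ l ∈ K, a * l * a⁻¹ = l⁻¹ → l ∈ Subgroup.zpowers τ := fun l hl hli =>
    mem_zpowers_of_inverted h hMK hr.out hrd hxD (by rw [orderOf_elem h hK hx hx1]; exact hr.out)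
      (hK.le hl) (hK.le hτ) (hK.comm l hl x hx) (hK.comm τ hτ x hx) hli hτi (hK.exponent l hl)
      (hK.exponent τ hτ) hτ1 (hK.comm l hl τ hτ)
  refine ⟨τ, hτ, hτ1, hτi, hl, fun k hk => ?_⟩
  obtain ⟨c, hc, hca, l, hlK, hli, rfl⟩ := exists_fixed_mul_inverted
    (Odd.of_dvd_nat (coreC_odd t) (Subgroup.card_dvd_of_le hK.le)) (ctx h).a_sq hK.conj_a hk
  obtain ⟨i, rfl⟩ := (mem_powers_iff_mem_zpowers (x := τ) (y := l)).2 (hl l hlK hli)
  exact ⟨c, hc, hca, i, rfl⟩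

/-- An element of `O` inverted by `a` commutes with a fixed element `≠ 1` of `K`, unless the fixed
elements form a cyclic group. -/
theorem exists_fixed_commute (hK : ElemSub t a r K) {x τ : G} (hτ : τ ∈ K)
    (hdec : ∀ k ∈ K, ∃ c ∈ K, a * c = c * a ∧ ∃ i : ℕ, k = c * τ ^ i) (hx : x ∈ K) (hx1 : x ≠ 1)
    (hxa : a * x = x * a) (hncyc : ∃ c ∈ K, a * c = c * a ∧ c ∉ Subgroup.zpowers x)
    {y : G} (hy : y ∈ coreC t) (hyi : a * y * a⁻¹ = y⁻¹) :
    ∃ k ∈ K, k ≠ 1 ∧ a * k = k * a ∧ y * k = k * y := by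
  classical
  set F := K ⊓ Subgroup.centralizer ({a} : Set G) with hF
  have hFmem : ∀ {k : G}, k ∈ F ↔ k ∈ K ∧ a * k = k * a := fun {k} => by
    rw [hF, Subgroup.mem_inf, Subgroup.mem_centralizer_singleton_iff]
    exact and_congr_right fun _ => eq_comm
  by_contra hno
  let ψ : ↥F × ↥F → ↥K := fun p =>
    ⟨(p.1 : G) * (y * (p.2 : G) * y⁻¹), mul_mem (hFmem.1 p.1.2).1 (hK.conj y hy _ (hFmem.1 p.2.2).1)⟩
  have hψ : Function.Injective ψ := by
    intro p q he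
    have e : (p.1 : G) * (y * p.2 * y⁻¹) = q.1 * (y * q.2 * y⁻¹) := congrArg Subtype.val he
    set u := (q.1 : G)⁻¹ * p.1 with hu
    set v := (q.2 : G) * (p.2 : G)⁻¹ with hv
    have huv : u = y * v * y⁻¹ := by
      calc u = (q.1 : G)⁻¹ * ((p.1 : G) * (y * p.2 * y⁻¹)) * (y * p.2 * y⁻¹)⁻¹ := by rw [hu]; group
        _ = y * v * y⁻¹ := by rw [e, hv]; group
    have huF := hFmem.1 (mul_mem (inv_mem q.1.2) p.1.2 : u ∈ F)
    have hvF := hFmem.1 (mul_mem q.2.2 (inv_mem p.2.2) : v ∈ F)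
    have h2 : u = y⁻¹ * v * y := by
      calc u = a * u * a⁻¹ := (mul_conj_fixed huF.2).symm
        _ = a * y * a⁻¹ * (a * v * a⁻¹) * (a * y * a⁻¹)⁻¹ := by rw [huv]; group
        _ = y⁻¹ * v * y := by rw [hyi, mul_conj_fixed hvF.2, inv_inv]
    have h3 : Commute (y * y) v := by
      show y * y * v = v * (y * y)
      calc y * y * v = y * (y * v * y⁻¹) * y := by group
        _ = y * (y⁻¹ * v * y) * y := by rw [← huv, h2]
        _ = v * (y * y) := by group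
    have h4 := commute_of_sq (core_odd h hy) h3
    have hv1 : v = 1 := by
      by_contra hv1
      exact hno ⟨v, hvF.1, hv1, hvF.2, h4.eq⟩
    have hu1 : u = 1 := by rw [huv, hv1, mul_one, mul_inv_cancel]
    exact Prod.ext (Subtype.ext (inv_mul_eq_one.1 hu1).symm) (Subtype.ext (mul_inv_eq_one.1 hv1).symm)
  have h1 := Nat.card_le_card_of_injective ψ hψ
  rw [Nat.card_prod] at h1
  have h2 : Nat.card ↥K ≤ Nat.card ↥F * r := by
    let φ : ↥F × Fin r → ↥K := fun p => ⟨(p.1 : G) * τ ^ (p.2 : ℕ), mul_mem (hFmem.1 p.1.2).1 (pow_mem hτ _)⟩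
    have hφ : Function.Surjective φ := by
      rintro ⟨k, hk⟩
      obtain ⟨c, hc, hca, i, rfl⟩ := hdec k hk
      refine ⟨(⟨c, hFmem.2 ⟨hc, hca⟩⟩, ⟨i % r, Nat.mod_lt _ hr.out.pos⟩), Subtype.ext ?_⟩
      show c * τ ^ (i % r) = c * τ ^ i
      rw [← pow_eq_pow_mod i (hK.exponent τ hτ)]
    refine (Nat.card_le_card_of_surjective φ hφ).trans ?_
    rw [Nat.card_prod, Nat.card_fin]
  obtain ⟨c, hc, hca, hcx⟩ := hncyc
  have hlt : r < Nat.card ↥F := by
    have hle : Subgroup.zpowers x < F := lt_of_le_of_ne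
      (Subgroup.zpowers_le.2 (hFmem.2 ⟨hx, hxa⟩)) fun e => hcx (e ▸ hFmem.2 ⟨hc, hca⟩)
    rw [← orderOf_elem h hK hx hx1, ← Nat.card_zpowers]
    exact Nat.lt_of_le_of_ne (Subgroup.card_le_of_le hle.le)
      fun e => hle.ne (Subgroup.eq_of_le_of_card_ge hle.le e.ge)
  have h3 := Nat.le_of_mul_le_mul_left (h1.trans h2) Nat.card_pos
  omega

/-- If the fixed elements are not cyclic, a nontrivial element of `K` is central in `O`. -/
theorem exists_central (hMK : PropModelKlein.{u}) (hr2 : r ≠ 2) (hrd : r ∣ Nat.card (coreV V))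
    (hK : ElemSub t a r K) {x τ : G} (hτ : τ ∈ K) (hτ1 : τ ≠ 1) (hτi : a * τ * a⁻¹ = τ⁻¹)
    (hdec : ∀ k ∈ K, ∃ c ∈ K, a * c = c * a ∧ ∃ i : ℕ, k = c * τ ^ i) (hx : x ∈ K) (hx1 : x ≠ 1)
    (hxa : a * x = x * a) (hncyc : ∃ c ∈ K, a * c = c * a ∧ c ∉ Subgroup.zpowers x) :
    ∃ k ∈ K, k ≠ 1 ∧ ∀ o ∈ coreC t, o * k = k * o := by
  classical
  -- `y²` acts unipotently
  have hunip : ∀ y ∈ coreC t, a * y * a⁻¹ = y⁻¹ → ∀ k ∈ K, (y * y) ^ r * k = k * (y * y) ^ r := by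
    intro y hy hyi
    obtain ⟨x₀, hx₀, hx₀1, hx₀a, hyx₀⟩ := exists_fixed_commute h hK hτ hdec hx hx1 hxa hncyc hy hyi
    have hx₀D : x₀ ∈ coreV V := (mem_core_iff h).2 ⟨hK.le hx₀, hx₀a⟩
    have hx₀p : (orderOf x₀).Prime := by rw [orderOf_elem h hK hx₀ hx₀1]; exact hr.out
    set H := Subgroup.centralizer ({x₀} : Set G) with hH
    have hτc : τ ∉ coreOf H := fun hc => hτ1 (not_mem_core h hr.out hrd hx₀D hx₀p (hK.le hτ)
      ⟨1, by rw [pow_one, hK.exponent τ hτ]⟩ hτi hc)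
    set h₀ := y * τ * y⁻¹ * τ⁻¹ with hh₀
    have hh₀c : h₀ ∈ coreOf H :=
      commutator_mem_core h hMK hx₀D hx₀p hy (hK.le hτ) hyx₀ (hK.comm τ hτ x₀ hx₀) hyi hτi hτc
    have hh₀K : h₀ ∈ K := mul_mem (hK.conj y hy τ hτ) (inv_mem hτ)
    have hh₀a : a * h₀ = h₀ * a := by
      haveI : (Cfsg.oddCore H).Normal := by unfold Cfsg.oddCore; infer_instance
      have haH : a ∈ H := Subgroup.mem_centralizer_singleton_iff.2 hx₀a
      have hconj : a * h₀ * a⁻¹ ∈ coreOf H := by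
        obtain ⟨w, hw, hwe⟩ := hh₀c
        exact ⟨⟨a, haH⟩ * w * ⟨a, haH⟩⁻¹, (inferInstance : (Cfsg.oddCore H).Normal).conj_mem w hw _, by
          rw [← hwe]; rfl⟩
      obtain ⟨c, hc, hca, i, hci⟩ := hdec h₀ hh₀K
      have h1 : h₀ * (a * h₀ * a⁻¹)⁻¹ = τ ^ (2 * i) := by
        rw [hci, show a * (c * τ ^ i) * a⁻¹ = a * c * a⁻¹ * (a * τ ^ i * a⁻¹) by group, ← conj_pow, hτi,
          mul_conj_fixed hca, inv_pow, _root_.mul_inv_rev, inv_inv,
          show c * τ ^ i * (τ ^ i * c⁻¹) = c * τ ^ (2 * i) * c⁻¹ by rw [two_mul, pow_add]; group,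
          hK.comm c hc _ (pow_mem hτ _), mul_inv_cancel_right]
      have h2 := not_mem_core h hr.out hrd hx₀D hx₀p (hK.le (pow_mem hτ (2 * i)))
        ⟨1, by rw [pow_one, hK.exponent _ (pow_mem hτ _)]⟩ (by rw [← conj_pow, hτi, inv_pow])
        (h1 ▸ mul_mem hh₀c (inv_mem hconj))
      have h3 : r ∣ i := by
        have h4 := orderOf_dvd_of_pow_eq_one h2
        rw [orderOf_elem h hK hτ hτ1] at h4
        exact (hr.out.dvd_mul.1 h4).resolve_left fun e => hr2 ((Nat.prime_dvd_prime_iff_eq hr.out Nat.prime_two).1 e)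
      obtain ⟨m, rfl⟩ := h3
      rw [hci, pow_mul, hK.exponent τ hτ, one_pow, mul_one]
      exact hca
    have hyτ : y * τ * y⁻¹ = τ * h₀ := by rw [hK.comm τ hτ h₀ hh₀K, hh₀]; group
    have hai : ∀ k : G, a * (y * k * y⁻¹) * a⁻¹ = y⁻¹ * (a * k * a⁻¹) * y := fun k => by
      calc a * (y * k * y⁻¹) * a⁻¹ = a * y * a⁻¹ * (a * k * a⁻¹) * (a * y * a⁻¹)⁻¹ := by group
        _ = y⁻¹ * (a * k * a⁻¹) * y := by rw [hyi, inv_inv]
    have hyh₀ : y * h₀ * y⁻¹ = h₀ := by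
      have h1 := hai τ
      rw [hyτ, hτi, show a * (τ * h₀) * a⁻¹ = a * τ * a⁻¹ * (a * h₀ * a⁻¹) by group, hτi,
        mul_conj_fixed hh₀a] at h1
      have h2 : τ⁻¹ = y * τ⁻¹ * y⁻¹ * (y * h₀ * y⁻¹) := by
        calc τ⁻¹ = y * (y⁻¹ * τ⁻¹ * y) * y⁻¹ := by group
          _ = _ := by rw [← h1]; group
      rw [show y * τ⁻¹ * y⁻¹ = (y * τ * y⁻¹)⁻¹ by group, hyτ] at h2
      calc y * h₀ * y⁻¹ = τ * h₀ * ((τ * h₀)⁻¹ * (y * h₀ * y⁻¹)) := by group
        _ = h₀ := by rw [← h2, hK.comm τ hτ h₀ hh₀K, mul_inv_cancel_right]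
    have hgτ : y * y * τ * (y * y)⁻¹ = τ * h₀ ^ 2 := by
      calc y * y * τ * (y * y)⁻¹ = (y * (y * τ * y⁻¹) * y⁻¹) := by group
        _ = y * (τ * h₀) * y⁻¹ := by rw [hyτ]
        _ = (y * τ * y⁻¹) * (y * h₀ * y⁻¹) := by group
        _ = τ * h₀ ^ 2 := by rw [hyh₀, hyτ, sq]; group
    have hgh₀ : ∀ n : ℕ, y * y * h₀ ^ n * (y * y)⁻¹ = h₀ ^ n := fun n => by
      rw [← conj_pow, show y * y * h₀ * (y * y)⁻¹ = y * (y * h₀ * y⁻¹) * y⁻¹ by group, hyh₀, hyh₀]
    have hcom : Commute τ h₀ := hK.comm τ hτ h₀ hh₀K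
    have hpτ : (y * y) ^ r * τ * ((y * y) ^ r)⁻¹ = τ := unipotent_pow hr2 hgτ
      (by rw [mul_one]; exact hgh₀ 2) (by group) (Commute.one_right _)
      (hK.exponent _ (pow_mem hh₀K 2)) (one_pow r)
    intro k hk
    obtain ⟨c, hc, hca, i, rfl⟩ := hdec k hk
    obtain ⟨c', hc', hc'a, j, hj⟩ := hdec (y * c * y⁻¹) (hK.conj y hy c hc)
    have h1 : y⁻¹ * c * y = c' * (τ ^ j)⁻¹ := by
      have h1 := hai c
      rw [hj, mul_conj_fixed hca, show a * (c' * τ ^ j) * a⁻¹ = a * c' * a⁻¹ * (a * τ ^ j * a⁻¹) by group,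
        ← conj_pow, hτi, mul_conj_fixed hc'a, inv_pow] at h1
      exact h1.symm
    have h2 : y * c' * y⁻¹ = c * (τ * h₀) ^ j := by
      calc y * c' * y⁻¹ = y * (c' * (τ ^ j)⁻¹) * y⁻¹ * (y * τ ^ j * y⁻¹) := by group
        _ = c * (τ * h₀) ^ j := by rw [← h1, ← conj_pow, hyτ]; group
    have hgc : y * y * c * (y * y)⁻¹ = c * (τ ^ (2 * j) * h₀ ^ (2 * j)) := by
      calc y * y * c * (y * y)⁻¹ = y * (y * c * y⁻¹) * y⁻¹ := by group
        _ = y * c' * y⁻¹ * (y * τ ^ j * y⁻¹) := by rw [hj]; group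
        _ = c * (τ ^ (2 * j) * h₀ ^ (2 * j)) := by
          rw [h2, ← conj_pow, hyτ, mul_assoc, ← pow_add, ← two_mul, hcom.mul_pow]
    have hwK : τ ^ (2 * j) * h₀ ^ (2 * j) ∈ K := mul_mem (pow_mem hτ _) (pow_mem hh₀K _)
    have hpc : (y * y) ^ r * c * ((y * y) ^ r)⁻¹ = c := unipotent_pow hr2 hgc
      (c := h₀ ^ (2 * (2 * j)))
      (by
        rw [show y * y * (τ ^ (2 * j) * h₀ ^ (2 * j)) * (y * y)⁻¹ =
            y * y * τ ^ (2 * j) * (y * y)⁻¹ * (y * y * h₀ ^ (2 * j) * (y * y)⁻¹) by group, hgh₀,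
          ← conj_pow, hgτ, (hcom.pow_right 2).mul_pow, ← pow_mul, mul_assoc, mul_assoc, ← pow_add,
          ← pow_add, add_comm])
      (hgh₀ _) (hK.comm _ hwK _ (pow_mem hh₀K _)) (hK.exponent _ hwK) (hK.exponent _ (pow_mem hh₀K _))
    exact ((show Commute ((y * y) ^ r) c from mul_inv_eq_iff_eq_mul.1 hpc).mul_right
      ((show Commute ((y * y) ^ r) τ from mul_inv_eq_iff_eq_mul.1 hpτ).pow_right i)).eq
  -- `O / C_O(K)` is an `r`-group
  set O := coreC t with hO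
  set C₀ := (Subgroup.centralizer (K : Set G)).subgroupOf O with hC₀
  have hC₀mem : ∀ o : O, o ∈ C₀ ↔ ∀ k ∈ K, k * (o : G) = (o : G) * k := fun o => by
    rw [hC₀, Subgroup.mem_subgroupOf, Subgroup.mem_centralizer_iff]; rfl
  haveI : C₀.Normal := by
    refine ⟨fun o ho g => (hC₀mem _).2 fun k hk => ?_⟩
    have h1 := (hC₀mem o).1 ho ((g : G)⁻¹ * k * g) (by
      have := hK.conj _ (inv_mem g.2) k hk
      rwa [inv_inv] at this)
    show k * ((g : G) * o * (g : G)⁻¹) = (g : G) * o * (g : G)⁻¹ * k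
    calc k * ((g : G) * o * (g : G)⁻¹) = (g : G) * ((g : G)⁻¹ * k * g * o) * (g : G)⁻¹ := by group
      _ = (g : G) * o * (g : G)⁻¹ * k := by rw [h1]; group
  let σ₀ : MulAut O :=
    { toFun := fun o => ⟨a * o * a⁻¹, conj_a_mem h o.2⟩
      invFun := fun o => ⟨a * o * a⁻¹, conj_a_mem h o.2⟩
      left_inv := fun o => Subtype.ext (by
        show a * (a * (o : G) * a⁻¹) * a⁻¹ = o
        rw [show a * (a * (o : G) * a⁻¹) * a⁻¹ = a * a * o * (a * a)⁻¹ by group, (ctx h).a_sq]; group)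
      right_inv := fun o => Subtype.ext (by
        show a * (a * (o : G) * a⁻¹) * a⁻¹ = o
        rw [show a * (a * (o : G) * a⁻¹) * a⁻¹ = a * a * o * (a * a)⁻¹ by group, (ctx h).a_sq]; group)
      map_mul' := fun o o' => Subtype.ext (by
        show a * ((o : G) * o') * a⁻¹ = a * o * a⁻¹ * (a * o' * a⁻¹)
        group) }
  have hσ₀ : ∀ o : O, ((σ₀ o : O) : G) = a * o * a⁻¹ := fun o => rfl
  have hσσ : ∀ o : O, σ₀ (σ₀ o) = o := fun o => σ₀.left_inv o
  have hmapC : C₀.map σ₀.toMonoidHom = C₀ := by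
    have hst : ∀ o ∈ C₀, σ₀ o ∈ C₀ := fun o ho => (hC₀mem _).2 fun k hk => by
      have h1 := (hC₀mem o).1 ho _ (hK.conj_a k hk)
      rw [hσ₀]
      calc k * (a * (o : G) * a⁻¹) = a * ((a * k * a⁻¹) * o) * a⁻¹ := by
            rw [(ctx h).a_inv, show a * (a * k * a * o) * a = (a * a) * k * (a * o * a) by group,
              (ctx h).a_sq, one_mul]
        _ = a * (o : G) * a⁻¹ * k := by
            rw [h1, (ctx h).a_inv, show a * ((o : G) * (a * k * a)) * a = a * o * a * k * (a * a) by group,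
              (ctx h).a_sq, mul_one]
    refine le_antisymm ?_ fun o ho => ⟨σ₀ o, hst o ho, hσσ o⟩
    rintro _ ⟨o, ho, rfl⟩
    exact hst o ho
  let τW : MulAut (O ⧸ C₀) := QuotientGroup.congr C₀ C₀ σ₀ hmapC
  have hτW : ∀ o : O, τW (o : O ⧸ C₀) = ((σ₀ o : O) : O ⧸ C₀) := fun o => rfl
  have hOodd : Odd (Nat.card O) := coreC_odd t
  have hWodd : Odd (Nat.card (O ⧸ C₀)) := hOodd.of_dvd_nat (Subgroup.card_quotient_dvd_card C₀)
  have hW : IsPGroup r (O ⧸ C₀) := by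
    refine isPGroup_of_inverted _ (O ⧸ C₀) τW rfl (fun w => ?_) hWodd ?_ fun w hw => ?_
    · obtain ⟨o, rfl⟩ := QuotientGroup.mk_surjective w
      rw [hτW, hτW, hσσ]
    · rw [eq_top_iff]
      rintro w -
      obtain ⟨o, rfl⟩ := QuotientGroup.mk_surjective w
      set T := (Subgroup.closure {w : O ⧸ C₀ | τW w = w⁻¹}).comap (QuotientGroup.mk' C₀) with hT
      have hle : coreC t ≤ T.map O.subtype := le_of_inverted h fun y hy hyi => by
        refine ⟨⟨y, hy⟩, Subgroup.mem_comap.2 (Subgroup.subset_closure ?_), rfl⟩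
        show τW ((⟨y, hy⟩ : O) : O ⧸ C₀) = _
        rw [hτW, show σ₀ ⟨y, hy⟩ = (⟨y, hy⟩ : O)⁻¹ from Subtype.ext (by rw [hσ₀]; exact hyi),
          QuotientGroup.mk_inv]
        rfl
      obtain ⟨o', ho', ho'e⟩ := hle o.2
      rw [show o = o' from Subtype.ext ho'e.symm]
      exact ho'
    · obtain ⟨o, rfl⟩ := QuotientGroup.mk_surjective w
      obtain ⟨c, hc, hca, l, hl, hli, hol⟩ := exists_fixed_mul_inverted hOodd (ctx h).a_sq
        (fun y hy => conj_a_mem h hy) o.2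
      have hcl : (o : O ⧸ C₀) = ((⟨c, hc⟩ : O) : O ⧸ C₀) * ((⟨l, hl⟩ : O) : O ⧸ C₀) := by
        rw [← QuotientGroup.mk_mul]; exact congrArg _ (Subtype.ext hol)
      set c₁ := ((⟨c, hc⟩ : O) : O ⧸ C₀) with hc₁
      set l₁ := ((⟨l, hl⟩ : O) : O ⧸ C₀) with hl₁
      have e1 : τW c₁ = c₁ := by
        rw [hc₁, hτW, show σ₀ ⟨c, hc⟩ = ⟨c, hc⟩ from Subtype.ext (by rw [hσ₀]; exact mul_conj_fixed hca)]
      have e2 : τW l₁ = l₁⁻¹ := by
        rw [hl₁, hτW, show σ₀ ⟨l, hl⟩ = (⟨l, hl⟩ : O)⁻¹ from Subtype.ext (by rw [hσ₀]; exact hli),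
          QuotientGroup.mk_inv]
      rw [hcl, map_mul, e1, e2, _root_.mul_inv_rev] at hw
      have hodd : ∀ u : O ⧸ C₀, Odd (orderOf u) := fun u => hWodd.of_dvd_nat (orderOf_dvd_natCard u)
      have e4 : c₁ = 1 := eq_one_of_conj_eq_inv (hodd l₁) (hodd c₁) (by
        calc l₁ * c₁ * l₁⁻¹ = l₁ * (c₁ * l₁⁻¹) := by group
          _ = c₁⁻¹ := by rw [hw]; group)
      have h5 := hunip l hl hli
      have h6 : ((l₁ * l₁) ^ r : O ⧸ C₀) = 1 := by
        rw [hl₁, ← QuotientGroup.mk_mul, ← QuotientGroup.mk_pow, QuotientGroup.eq_one_iff, hC₀mem]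
        exact fun k hk => (h5 k hk).symm
      refine ⟨1, ?_⟩
      rw [hcl, e4, one_mul, pow_one]
      rw [← sq, ← pow_mul, mul_comm, pow_mul] at h6
      exact orderOf_eq_one_iff.1 (Nat.eq_one_of_dvd_coprimes (Nat.coprime_two_right.2 (hodd _)) dvd_rfl (orderOf_dvd_of_pow_eq_one h6))
  -- a Sylow subgroup of `O` has a fixed point
  obtain ⟨P⟩ : Nonempty (Sylow r O) := inferInstance
  have hPC : (P : Subgroup O) ⊔ C₀ = ⊤ := by
    obtain ⟨m, hm⟩ := IsPGroup.iff_card.1 hW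
    rw [← Subgroup.index_eq_one]
    refine Nat.eq_one_of_dvd_coprimes (((hr.out.coprime_iff_not_dvd).2 P.not_dvd_index).pow_left m) ?_
      (Subgroup.index_dvd_of_le le_sup_left)
    rw [← hm, ← Subgroup.index_eq_card]
    exact Subgroup.index_dvd_of_le le_sup_right
  set P' := (P : Subgroup O).map O.subtype with hP'
  have hP'O : P' ≤ O := Subgroup.map_subtype_le _
  have hKp : IsPGroup r K := fun k => ⟨1, Subtype.ext (by rw [pow_one]; exact hK.exponent k k.2)⟩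
  have hnK : P' ≤ Subgroup.normalizer (K : Set G) := fun p hp =>
    Subgroup.mem_normalizer_fintype fun k hk => hK.conj p (hP'O hp) k hk
  have hsup : IsPGroup r ↥(P' ⊔ K) := IsPGroup.to_sup_of_normal_right' (P.2.map _) hKp hnK
  haveI : (K.subgroupOf (P' ⊔ K)).Normal :=
    Subgroup.normal_subgroupOf_of_le_normalizer (sup_le hnK Subgroup.le_normalizer)
  have hne : K.subgroupOf (P' ⊔ K) ≠ ⊥ := fun e => hx1 (congrArg Subtype.val
    (Subgroup.mem_bot.1 (show (⟨x, Subgroup.mem_sup_right hx⟩ : ↥(P' ⊔ K)) ∈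
      (⊥ : Subgroup ↥(P' ⊔ K)) by rw [← e]; exact hx)))
  obtain ⟨w, hw, hw1⟩ := (Subgroup.bot_or_exists_ne_one _).resolve_left
    (PGroups.normal_inf_center_ne_bot hsup _ hne)
  obtain ⟨hwK, hwZ⟩ := Subgroup.mem_inf.1 hw
  refine ⟨(w : G), hwK, fun e => hw1 (Subtype.ext e), fun o ho => ?_⟩
  have hle : (⊤ : Subgroup O) ≤ (Subgroup.centralizer ({(w : G)} : Set G)).subgroupOf O := by
    rw [← hPC, sup_le_iff]
    refine ⟨fun p hp => ?_, fun c hc => ?_⟩
    · rw [Subgroup.mem_subgroupOf, Subgroup.mem_centralizer_singleton_iff]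
      exact congrArg Subtype.val
        (Subgroup.mem_center_iff.1 hwZ ⟨p, Subgroup.mem_sup_left ⟨p, hp, rfl⟩⟩)
    · rw [Subgroup.mem_subgroupOf, Subgroup.mem_centralizer_singleton_iff]
      exact ((hC₀mem c).1 hc _ hwK).symm
  exact Subgroup.mem_centralizer_singleton_iff.1 (hle (Subgroup.mem_top (⟨o, ho⟩ : O)))

/-- A plane meeting `D` gives a line with at most `r` conjugates. -/
theorem line_of_plane (hr2 : r ≠ 2) (hK : ElemSub t a r K) {x τ : G} (hx : x ∈ K) (hx1 : x ≠ 1)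
    (hxa : a * x = x * a) (hτ : τ ∈ K) (hτi : a * τ * a⁻¹ = τ⁻¹)
    (hdec : ∀ k ∈ K, ∃ i j : ℕ, k = x ^ i * τ ^ j) :
    Line V t a r x ∧ (lines t x).ncard ≤ r := by
  classical
  have hxD : x ∈ coreV V := (mem_core_iff h).2 ⟨hK.le hx, hxa⟩
  have hxo := orderOf_elem h hK hx hx1
  have hxp : (orderOf x).Prime := by rw [hxo]; exact hr.out
  have hcom : Commute x τ := hK.comm x hx τ hτ
  -- a conjugate of `⟨x⟩` is some `⟨x τ^j⟩`
  have key : ∀ X ∈ lines t x, ∃ j : ℕ, X = Subgroup.zpowers (x * τ ^ j) := by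
    intro X hX
    obtain ⟨o, ho, rfl⟩ := exists_conj_of_line h hxD hxp hX
    obtain ⟨i, j, hij⟩ := hdec _ (hK.conj o ho x hx)
    have hi : ¬ r ∣ i := by
      rintro ⟨m, rfl⟩
      rw [pow_mul, hK.exponent x hx, one_pow, one_mul] at hij
      refine hx1 (eq_one_of_conj_inverted h hxD ho ?_)
      rw [hij, ← conj_pow, hτi, inv_pow]
    obtain ⟨e, he⟩ := exists_pow_eq_self_of_coprime (n := i) (x := x)
      (by rw [hxo]; exact (hr.out.coprime_iff_not_dvd.2 hi).symm)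
    refine ⟨j * e, ?_⟩
    have h1 : (o * x * o⁻¹) ^ e = x * τ ^ (j * e) := by
      rw [hij, ((hcom.pow_left i).pow_right j).mul_pow, he, ← pow_mul]
    rw [← h1]
    refine (Subgroup.eq_of_le_of_card_ge (Subgroup.zpowers_le.2 (pow_mem (Subgroup.mem_zpowers _) e)) ?_).symm
    rw [Nat.card_zpowers, Nat.card_zpowers]
    have ho1 : orderOf (o * x * o⁻¹) = r := (MulEquiv.orderOf_eq (MulAut.conj o) x).trans hxo
    have h2 : orderOf ((o * x * o⁻¹) ^ e) = r := orderOf_elem h hK (pow_mem (hK.conj o ho x hx) e) fun e1 => by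
      rw [h1] at e1
      refine hx1 (eq_one_of_both h (core_le h hxD) hxa ?_)
      rw [eq_inv_of_mul_eq_one_left e1, ← conj_inv, ← conj_pow, hτi, inv_pow]
    rw [ho1, h2]
  refine ⟨⟨hxD, hxo, fun d hd => ?_, fun X hX hne => ?_⟩, ?_⟩
  · -- `D` normalises `⟨x⟩`
    have hdO := core_le h hd
    obtain ⟨i, j, hij⟩ := hdec _ (hK.conj d hdO x hx)
    have hfix : a * (d * x * d⁻¹) = d * x * d⁻¹ * a := by
      refine mul_inv_eq_iff_eq_mul.1 ?_
      rw [show a * (d * x * d⁻¹) * a⁻¹ = a * d * a⁻¹ * (a * x * a⁻¹) * (a * d * a⁻¹)⁻¹ by group,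
        mul_conj_fixed ((mem_core_iff h).1 hd).2, mul_conj_fixed hxa]
    have hj : τ ^ j = 1 := by
      refine eq_one_of_both h (pow_mem (hK.le hτ) j) ?_ (by rw [← conj_pow, hτi, inv_pow])
      have h1 : τ ^ j = (x ^ i)⁻¹ * (d * x * d⁻¹) := by rw [hij, inv_mul_cancel_left]
      rw [h1]
      exact ((show Commute a x from hxa).pow_right i).inv_right.mul_right hfix
    rw [hj, mul_one] at hij
    refine Subgroup.mem_normalizer_fintype fun w hw => ?_
    obtain ⟨m, rfl⟩ := Subgroup.mem_zpowers_iff.1 hw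
    rw [SetLike.mem_coe, ← conj_zpow, hij]
    exact zpow_mem (pow_mem (Subgroup.mem_zpowers x) i) m
  · obtain ⟨j, rfl⟩ := key X hX
    have hne1 : τ ^ j ≠ 1 := fun e => hne (by rw [e, mul_one])
    refine ⟨τ ^ j, ?_, orderOf_elem h hK (pow_mem hτ j) hne1, (hcom.pow_right j).eq.symm,
      by rw [← conj_pow, hτi, inv_pow]⟩
    have h1 := mul_mem (inv_mem (Subgroup.mem_sup_left (T := Subgroup.zpowers (x * τ ^ j))
      (Subgroup.mem_zpowers x))) (Subgroup.mem_sup_right (S := Subgroup.zpowers x)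
      (Subgroup.mem_zpowers (x * τ ^ j)))
    rwa [inv_mul_cancel_left] at h1
  · calc (lines t x).ncard ≤ (Set.range fun j : Fin r => Subgroup.zpowers (x * τ ^ (j : ℕ))).ncard := by
          refine Set.ncard_le_ncard ?_ (Set.toFinite _)
          intro X hX
          obtain ⟨j, rfl⟩ := key X hX
          exact ⟨⟨j % r, Nat.mod_lt _ hr.out.pos⟩, by simp only; rw [← pow_eq_pow_mod j (hK.exponent τ hτ)]⟩
      _ ≤ r := by
          rw [← Nat.card_coe_set_eq]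
          exact (Finite.card_range_le _).trans (le_of_eq (Nat.card_fin r))

/-- An elementary abelian normal subgroup meeting `D` gives a line with at most `r` conjugates. -/
theorem exists_line_of_elem (hMK : PropModelKlein.{u}) (hr2 : r ≠ 2) (hrd : r ∣ Nat.card (coreV V))
    (hK : ElemSub t a r K) {x : G} (hx : x ∈ K) (hx1 : x ≠ 1) (hxa : a * x = x * a) :
    ∃ x : G, Line V t a r x ∧ (lines t x).ncard ≤ r := by
  obtain ⟨τ, hτ, hτ1, hτi, hl, hdec⟩ := exists_inverted_generator h hMK hrd hK hx hx1 hxa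
  by_cases hcyc : ∀ c ∈ K, a * c = c * a → c ∈ Subgroup.zpowers x
  · refine ⟨x, line_of_plane h hr2 hK hx hx1 hxa hτ hτi fun k hk => ?_⟩
    obtain ⟨c, hc, hca, j, rfl⟩ := hdec k hk
    obtain ⟨i, hi⟩ := mem_powers_iff_mem_zpowers.2 (hcyc c hc hca)
    exact ⟨i, j, by rw [← hi]⟩
  push Not at hcyc
  obtain ⟨k, hk, hk1, hkc⟩ := exists_central h hMK hr2 hrd hK hτ hτ1 hτi hdec hx hx1 hxa hcyc
  obtain ⟨c, hc, hca, i, hki⟩ := hdec k hk
  -- `τ` is central
  have hτc : ∀ o ∈ coreC t, o * τ = τ * o := by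
    have hka : ∀ o ∈ coreC t, o * (a * k * a⁻¹) = a * k * a⁻¹ * o := fun o ho => by
      have h1 := hkc _ (conj_a_mem h ho)
      calc o * (a * k * a⁻¹) = a * ((a * o * a⁻¹) * k) * a⁻¹ := by
            rw [show a * ((a * o * a⁻¹) * k) * a⁻¹ = (a * a) * o * (a⁻¹ * k * a⁻¹) by group,
              (ctx h).a_sq, one_mul, (ctx h).a_inv]
        _ = a * k * a⁻¹ * o := by
            rw [h1, show a * (k * (a * o * a⁻¹)) * a⁻¹ = a * k * a * o * (a⁻¹ * a⁻¹) by group,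
              (ctx h).a_inv, (ctx h).a_sq, mul_one]
    have hc2 : k * (a * k * a⁻¹) = c * c := by
      rw [hki, show a * (c * τ ^ i) * a⁻¹ = a * c * a⁻¹ * (a * τ ^ i * a⁻¹) by group, ← conj_pow, hτi,
        mul_conj_fixed hca, inv_pow, mul_assoc, ← mul_assoc (τ ^ i), hK.comm _ (pow_mem hτ i) c hc]
      group
    have hcD : c ∈ coreV V := (mem_core_iff h).2 ⟨hK.le hc, hca⟩
    have hc1 : c = 1 := by
      by_contra hc1
      refine not_central h hcD hc1 fun o ho => ?_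
      refine ((commute_of_sq (core_odd h (hK.le hc)) (m := o) ?_).eq).symm
      show c * c * o = o * (c * c)
      rw [← hc2]
      exact ((show Commute k o from (hkc o ho).symm).mul_left
        (show Commute (a * k * a⁻¹) o from (hka o ho).symm)).eq
    rw [hc1, one_mul] at hki
    obtain ⟨e, he⟩ : ∃ e : ℕ, (τ ^ i) ^ e = τ := exists_pow_eq_self_of_coprime (by
      rw [orderOf_elem h hK hτ hτ1]
      refine (hr.out.coprime_iff_not_dvd.2 ?_).symm
      rintro ⟨m, rfl⟩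
      exact hk1 (by rw [hki, pow_mul, hK.exponent τ hτ, one_pow]))
    intro o ho
    rw [← he, ← hki]
    exact (Commute.pow_right (hkc o ho) e).eq
  have hcom : Commute x τ := hK.comm x hx τ hτ
  let K' : Subgroup G :=
    { carrier := {w | ∃ i j : ℕ, w = x ^ i * τ ^ j}
      one_mem' := ⟨0, 0, by simp⟩
      mul_mem' := by
        rintro _ _ ⟨i, j, rfl⟩ ⟨i', j', rfl⟩
        exact ⟨i + i', j + j', by
          rw [((hcom.pow_left i').pow_right j).symm.mul_mul_mul_comm, ← pow_add, ← pow_add]⟩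
      inv_mem' := by
        rintro _ ⟨i, j, rfl⟩
        refine ⟨i * (r - 1), j * (r - 1), inv_eq_of_mul_eq_one_right ?_⟩
        rw [((hcom.pow_left (i * (r - 1))).pow_right j).symm.mul_mul_mul_comm, ← pow_add, ← pow_add,
          show i + i * (r - 1) = r * i by
            obtain ⟨m, hm⟩ := Nat.exists_eq_add_of_le hr.out.one_le; rw [hm, Nat.add_sub_cancel_left]; ring,
          show j + j * (r - 1) = r * j by
            obtain ⟨m, hm⟩ := Nat.exists_eq_add_of_le hr.out.one_le; rw [hm, Nat.add_sub_cancel_left]; ring,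
          pow_mul, pow_mul, hK.exponent x hx, hK.exponent τ hτ, one_pow, one_pow, one_mul] }
  have hK'K : K' ≤ K := by
    rintro _ ⟨i, j, rfl⟩
    exact mul_mem (pow_mem hx i) (pow_mem hτ j)
  let T : Subgroup G :=
    { carrier := {o | o ∈ coreC t ∧ ∃ j : ℤ, o * x * o⁻¹ = x * τ ^ j}
      one_mem' := ⟨one_mem _, 0, by simp⟩
      mul_mem' := by
        rintro o o' ⟨ho, j, hj⟩ ⟨ho', j', hj'⟩
        refine ⟨mul_mem ho ho', j + j', ?_⟩
        rw [show o * o' * x * (o * o')⁻¹ = o * (o' * x * o'⁻¹) * o⁻¹ by group, hj',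
          show o * (x * τ ^ j') * o⁻¹ = o * x * o⁻¹ * (o * τ ^ j' * o⁻¹) by group, hj,
          mul_conj_fixed ((show Commute o τ from hτc o ho).zpow_right j').eq, mul_assoc, zpow_add]
      inv_mem' := by
        rintro o ⟨ho, j, hj⟩
        refine ⟨inv_mem ho, -j, ?_⟩
        rw [inv_inv]
        calc o⁻¹ * x * o = o⁻¹ * (o * x * o⁻¹ * τ ^ (-j)) * o := by
              rw [hj, mul_assoc x, ← zpow_add, add_neg_cancel, zpow_zero, mul_one]
          _ = x * (o⁻¹ * τ ^ (-j) * o) := by group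
          _ = x * τ ^ (-j) := by
              have h1 := mul_conj_fixed ((show Commute o⁻¹ τ from
                (show Commute o τ from hτc o ho).inv_left).zpow_right (-j)).eq
              rw [inv_inv] at h1
              rw [h1] }
  have hTO : coreC t ≤ T := le_of_inverted h fun y hy hyi => by
    obtain ⟨c', hc', hc'a, j, hj⟩ := hdec (y * x * y⁻¹) (hK.conj y hy x hx)
    have h1 : y⁻¹ * x * y = c' * (τ ^ j)⁻¹ := by
      have h1 : a * (y * x * y⁻¹) * a⁻¹ = y⁻¹ * x * y := by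
        calc a * (y * x * y⁻¹) * a⁻¹ = a * y * a⁻¹ * (a * x * a⁻¹) * (a * y * a⁻¹)⁻¹ := by group
          _ = _ := by rw [hyi, mul_conj_fixed hxa, inv_inv]
      rw [hj, show a * (c' * τ ^ j) * a⁻¹ = a * c' * a⁻¹ * (a * τ ^ j * a⁻¹) by group, ← conj_pow, hτi,
        mul_conj_fixed hc'a, inv_pow] at h1
      exact h1.symm
    have hyτ : y * τ ^ j * y⁻¹ = τ ^ j :=
      mul_conj_fixed ((show Commute y τ from hτc y hy).pow_right j).eq
    have h2 : y * y * x * (y * y)⁻¹ = x * τ ^ ((j + j : ℕ) : ℤ) := by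
      calc y * y * x * (y * y)⁻¹ = y * (y * x * y⁻¹) * y⁻¹ := by group
        _ = y * (c' * (τ ^ j)⁻¹) * y⁻¹ * (y * τ ^ j * y⁻¹) * (y * τ ^ j * y⁻¹) := by rw [hj]; group
        _ = x * τ ^ ((j + j : ℕ) : ℤ) := by
            rw [← h1, hyτ, zpow_natCast, pow_add, ← mul_assoc]; group
    obtain ⟨m, hm⟩ : Odd (orderOf y) := core_odd h hy
    have h3 : (y * y) ^ (m + 1) = y := by
      rw [← sq, ← pow_mul, show 2 * (m + 1) = orderOf y + 1 by omega, pow_succ, pow_orderOf_eq_one,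
        one_mul]
    rw [← h3]
    exact pow_mem (show y * y ∈ T from ⟨mul_mem hy hy, _, h2⟩) _
  have hK'x : x ∈ K' := ⟨1, 0, by simp⟩
  have hK'τ : τ ∈ K' := ⟨0, 1, by simp⟩
  have hK'inv : ElemSub t a r K' :=
    { le := hK'K.trans hK.le
      conj := by
        rintro o ho _ ⟨i, j, rfl⟩
        obtain ⟨-, m, hm⟩ := hTO ho
        rw [show o * (x ^ i * τ ^ j) * o⁻¹ = o * x ^ i * o⁻¹ * (o * τ ^ j * o⁻¹) by group, ← conj_pow, hm,
          mul_conj_fixed ((show Commute o τ from hτc o ho).pow_right j).eq]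
        exact mul_mem (pow_mem (mul_mem hK'x (zpow_mem hK'τ m)) i) (pow_mem hK'τ j)
      conj_a := by
        rintro _ ⟨i, j, rfl⟩
        rw [show a * (x ^ i * τ ^ j) * a⁻¹ = a * x ^ i * a⁻¹ * (a * τ ^ j * a⁻¹) by group, ← conj_pow,
          ← conj_pow, mul_conj_fixed hxa, hτi]
        exact mul_mem (pow_mem hK'x i) (pow_mem (inv_mem hK'τ) j)
      comm := fun u hu v hv => hK.comm u (hK'K hu) v (hK'K hv)
      exponent := fun u hu => hK.exponent u (hK'K hu) }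
  exact ⟨x, line_of_plane h hr2 hK'inv hK'x hx1 hxa hK'τ hτi fun w hw => hw⟩

end

end Cfsg.Agent.Lib.GorensteinWalter.Four.Plane
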