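import Cfsg.Agent.Lib.GorensteinWalter.ActTools
import Cfsg.Agent.S0205

/-!
# Gorenstein–Walter, section 3 for `|S| = 4`: two abstract lemmas

A group of odd order generated by the elements inverted by an involutory automorphism, all of them `r`-elements,
is an `r`-group; and a unipotent automorphism of an abelian group of exponent `r` has order dividing `r`.
-/

set_option autoImplicit false
set_option linter.unusedSectionVars false
set_option linter.style.haveILetI false

namespace Cfsg.Agent.Lib.GorensteinWalter.Four.Plane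

universe u

/-- An element commuting with `y * y` commutes with `y`, if `y` has odd order. -/
theorem commute_of_sq {M : Type u} [Monoid M] {y m : M} (hy : Odd (orderOf y))
    (h : Commute (y * y) m) : Commute y m := by
  obtain ⟨k, hk⟩ := hy
  have h2 : (y * y) ^ (k + 1) = y := by
    rw [← sq, ← pow_mul, show 2 * (k + 1) = orderOf y + 1 by omega, pow_succ, pow_orderOf_eq_one,
      one_mul]
  exact h2 ▸ h.pow_left _

/-- `u ↦ u w`, `w ↦ w c`, `c ↦ c`: the `n`-th power. -/
theorem unipotent_iterate {M : Type u} [Group M] {g v w c : M} (hv : g * v * g⁻¹ = v * w)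
    (hw : g * w * g⁻¹ = w * c) (hc : g * c * g⁻¹ = c) (hwc : Commute w c) (n : ℕ) :
    g ^ n * v * (g ^ n)⁻¹ = v * (w ^ n * c ^ n.choose 2) := by
  induction n with
  | zero => simp
  | succ n ih =>
    have hwn : g * w ^ n * g⁻¹ = w ^ n * c ^ n := by rw [← conj_pow, hw, hwc.mul_pow]
    have hcn : g * c ^ n.choose 2 * g⁻¹ = c ^ n.choose 2 := by rw [← conj_pow, hc]
    calc g ^ (n + 1) * v * (g ^ (n + 1))⁻¹ = g * (g ^ n * v * (g ^ n)⁻¹) * g⁻¹ := by
          rw [pow_succ' g n]; group
      _ = g * v * g⁻¹ * (g * w ^ n * g⁻¹) * (g * c ^ n.choose 2 * g⁻¹) := by rw [ih]; group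
      _ = v * (w ^ (n + 1) * c ^ (n + 1).choose 2) := by
          rw [hv, hwn, hcn, Nat.choose_succ_succ', Nat.choose_one_right, pow_succ' w n, pow_add c n]
          simp only [mul_assoc]

theorem unipotent_pow {M : Type u} [Group M] {r : ℕ} [hr : Fact r.Prime] (hr2 : r ≠ 2) {g v w c : M}
    (hv : g * v * g⁻¹ = v * w) (hw : g * w * g⁻¹ = w * c) (hc : g * c * g⁻¹ = c) (hwc : Commute w c)
    (hwr : w ^ r = 1) (hcr : c ^ r = 1) : g ^ r * v * (g ^ r)⁻¹ = v := by
  obtain ⟨k, hk⟩ : r ∣ r.choose 2 :=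
    hr.out.dvd_choose_self two_ne_zero (lt_of_le_of_ne hr.out.two_le (Ne.symm hr2))
  rw [unipotent_iterate hv hw hc hwc, hwr, hk, pow_mul, hcr, one_pow, mul_one, mul_one]

section RGroup

variable {r : ℕ} [hr : Fact r.Prime]

/-- A group of odd order generated by inverted `r`-elements is an `r`-group. -/
theorem isPGroup_of_inverted : ∀ (n : ℕ) (W : Type u) [Group W] [Finite W] (σ : MulAut W),
    Nat.card W = n → (∀ w, σ (σ w) = w) → Odd (Nat.card W) →
    Subgroup.closure {w : W | σ w = w⁻¹} = ⊤ → (∀ w : W, σ w = w⁻¹ → ∃ k : ℕ, w ^ r ^ k = 1) →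
    IsPGroup r W := by
  intro n
  induction n using Nat.strong_induction_on with
  | _ n ih =>
  intro W _ _ σ hn hσ hodd hgen hinv
  classical
  have hodd' : ∀ w : W, Odd (orderOf w) := fun w => hodd.of_dvd_nat (orderOf_dvd_natCard w)
  by_cases hW : Subsingleton W
  · exact fun w => ⟨0, Subsingleton.elim _ _⟩
  rw [not_subsingleton_iff_nontrivial] at hW
  haveI : Group.IsSolvable W := Cfsg.Agent.S0205.result hodd
  -- the quotient by a stable normal subgroup
  have hquot : ∀ (M : Subgroup W) [M.Normal], M ≠ ⊥ → (∀ m ∈ M, σ m ∈ M) → IsPGroup r (W ⧸ M) := by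
    intro M _ hM1 hMσ
    have hmap : M.map σ.toMonoidHom = M := by
      refine le_antisymm ?_ fun m hm => ⟨σ m, hMσ m hm, hσ m⟩
      rintro _ ⟨m, hm, rfl⟩
      exact hMσ m hm
    let τ : MulAut (W ⧸ M) := QuotientGroup.congr M M σ hmap
    have hτ : ∀ w : W, τ (w : W ⧸ M) = ((σ w : W) : W ⧸ M) := fun w => rfl
    have hsplit : ∀ w : W, τ (w : W ⧸ M) = (w : W ⧸ M)⁻¹ →
        ∃ l : W, σ l = l⁻¹ ∧ (l : W ⧸ M) = (w : W ⧸ M) := by
      intro w hw
      set y := (σ w)⁻¹ * w with hy
      have hyi : σ y = y⁻¹ := by rw [hy, map_mul, map_inv, hσ, _root_.mul_inv_rev, inv_inv]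
      obtain ⟨k, hk⟩ := hodd' y
      refine ⟨y ^ (k + 1), by rw [map_pow, hyi, inv_pow], ?_⟩
      have h1 : (y : W ⧸ M) = (w : W ⧸ M) * (w : W ⧸ M) := by
        rw [hy, QuotientGroup.mk_mul, QuotientGroup.mk_inv, ← hτ, hw, inv_inv]
      have h2 : (y : W ⧸ M) ^ (k + 1) = (w : W ⧸ M) := by
        have hdw : orderOf (w : W ⧸ M) ∣ orderOf (y : W ⧸ M) := by
          rw [h1, ← sq]
          rw [Nat.Coprime.orderOf_pow]
          exact (Nat.coprime_two_right.2 ((hodd' w).of_dvd_nat (orderOf_map_dvd (QuotientGroup.mk' M) w)))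
        have hdvd : orderOf (w : W ⧸ M) ∣ 2 * k + 1 :=
          hdw.trans ((orderOf_map_dvd (QuotientGroup.mk' M) y).trans (by rw [hk]))
        rw [h1, ← sq, ← pow_mul, show 2 * (k + 1) = (2 * k + 1) + 1 by omega, pow_succ,
          orderOf_dvd_iff_pow_eq_one.1 hdvd, one_mul]
      rw [QuotientGroup.mk_pow, h2]
    refine ih (Nat.card (W ⧸ M)) ?_ (W ⧸ M) τ rfl (fun w => ?_)
      (hodd.of_dvd_nat (Subgroup.card_quotient_dvd_card M)) ?_ fun w hw => ?_
    · rw [← hn, Subgroup.card_eq_card_quotient_mul_card_subgroup M]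
      exact lt_mul_of_one_lt_right Nat.card_pos ((Subgroup.one_lt_card_iff_ne_bot M).2 hM1)
    · obtain ⟨w, rfl⟩ := QuotientGroup.mk_surjective w
      rw [hτ, hτ, hσ]
    · rw [eq_top_iff, ← Subgroup.map_top_of_surjective (QuotientGroup.mk' M)
        (QuotientGroup.mk'_surjective M), ← hgen, MonoidHom.map_closure]
      refine Subgroup.closure_mono ?_
      rintro _ ⟨w, hw, rfl⟩
      show τ (w : W ⧸ M) = (w : W ⧸ M)⁻¹
      rw [hτ, hw, QuotientGroup.mk_inv]
    · obtain ⟨w, rfl⟩ := QuotientGroup.mk_surjective w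
      obtain ⟨l, hl, hlw⟩ := hsplit w hw
      obtain ⟨j, hj⟩ := hinv l hl
      exact ⟨j, by rw [← hlw, ← QuotientGroup.mk_pow, hj, QuotientGroup.mk_one]⟩
  -- the last term of the derived series
  have hex : ∃ k, derivedSeries W k = ⊥ := (Group.isSolvable_def W).1 inferInstance
  obtain ⟨k, hk⟩ : ∃ k, Nat.find hex = k + 1 := by
    rcases h : Nat.find hex with _ | k
    · have := Nat.find_spec hex
      rw [h, derivedSeries_zero] at this
      exact absurd this top_ne_bot
    · exact ⟨k, rfl⟩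
  set N := derivedSeries W k with hN
  have hN1 : N ≠ ⊥ := Nat.find_min hex (by omega)
  have hNab : ∀ a ∈ N, ∀ b ∈ N, a * b = b * a := by
    have h0 := Nat.find_spec hex
    rw [hk, derivedSeries_succ, Subgroup.commutator_eq_bot_iff_le_centralizer] at h0
    exact fun a ha b hb => Subgroup.mem_centralizer_iff.1 (h0 hb) a ha
  haveI : N.Characteristic := derivedSeries_characteristic W k
  have hNσ : ∀ m ∈ N, σ m ∈ N := fun m hm =>
    Subgroup.characteristic_iff_le_comap.1 inferInstance σ hm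
  let P₀ : Subgroup W :=
    { carrier := {m | m ∈ N ∧ ∃ j : ℕ, m ^ r ^ j = 1}
      one_mem' := ⟨one_mem _, 0, one_pow _⟩
      mul_mem' := by
        rintro a b ⟨ha, i, hi⟩ ⟨hb, j, hj⟩
        refine ⟨mul_mem ha hb, i + j, ?_⟩
        rw [(show Commute a b from hNab a ha b hb).mul_pow, pow_add, pow_mul, hi, one_pow, one_mul,
          mul_comm, pow_mul, hj, one_pow]
      inv_mem' := by
        rintro a ⟨ha, i, hi⟩
        exact ⟨inv_mem ha, i, by rw [inv_pow, hi, inv_one]⟩ }
  by_cases hP₀ : P₀ = ⊥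
  · have hfix : ∀ m ∈ N, σ m = m := by
      intro m hm
      have hi : σ (m⁻¹ * σ m) = (m⁻¹ * σ m)⁻¹ := by
        rw [map_mul, map_inv, hσ, _root_.mul_inv_rev, inv_inv]
      have hmem : m⁻¹ * σ m ∈ P₀ := ⟨mul_mem (inv_mem hm) (hNσ m hm), hinv _ hi⟩
      rw [hP₀, Subgroup.mem_bot, inv_mul_eq_one] at hmem
      exact hmem.symm
    have hcen : N ≤ Subgroup.center W := by
      intro m hm
      rw [Subgroup.mem_center_iff]
      intro g
      have hle : Subgroup.closure {w : W | σ w = w⁻¹} ≤ Subgroup.centralizer ({m} : Set W) := by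
        rw [Subgroup.closure_le]
        intro y hy
        rw [SetLike.mem_coe, Subgroup.mem_centralizer_singleton_iff]
        refine (commute_of_sq (hodd' y) ?_).eq
        have h1 := hfix _ ((inferInstance : N.Normal).conj_mem m hm y)
        rw [map_mul, map_mul, map_inv, hy, hfix m hm, inv_inv] at h1
        show y * y * m = m * (y * y)
        calc y * y * m = y * (y * m * y⁻¹) * y := by group
          _ = y * (y⁻¹ * m * y) * y := by rw [h1]
          _ = m * (y * y) := by group
      rw [hgen] at hle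
      exact Subgroup.mem_centralizer_singleton_iff.1 (hle (Subgroup.mem_top g))
    haveI : Group.IsNilpotent (W ⧸ N) := (hquot N hN1 hNσ).isNilpotent
    haveI : Group.IsNilpotent W := Subgroup.isNilpotent_of_ker_le_center (QuotientGroup.mk' N)
      (by rw [QuotientGroup.ker_mk']; exact hcen)
    obtain ⟨P⟩ : Nonempty (Sylow r W) := inferInstance
    haveI : (P : Subgroup W).Normal := inferInstance
    haveI := P.unique_of_normal inferInstance
    have htop : (P : Subgroup W) = ⊤ := by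
      rw [eq_top_iff, ← hgen, Subgroup.closure_le]
      intro y hy
      obtain ⟨j, hj⟩ := hinv y hy
      obtain ⟨i, -, hi⟩ := (Nat.dvd_prime_pow hr.out).1 (orderOf_dvd_of_pow_eq_one hj)
      obtain ⟨Q, hQ⟩ := (IsPGroup.of_card (p := r) (G := Subgroup.zpowers y) (n := i)
        (by rw [Nat.card_zpowers, hi])).exists_le_sylow
      rw [Subsingleton.elim Q P] at hQ
      exact hQ (Subgroup.mem_zpowers y)
    exact IsPGroup.of_equiv P.2 ((MulEquiv.subgroupCongr htop).trans Subgroup.topEquiv)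
  · haveI : P₀.Normal := ⟨fun m hm g => ⟨(inferInstance : N.Normal).conj_mem m hm.1 g, by
      obtain ⟨j, hj⟩ := hm.2
      exact ⟨j, by rw [conj_pow, hj, mul_one, mul_inv_cancel]⟩⟩⟩
    have hq := hquot P₀ hP₀ fun m hm => ⟨hNσ m hm.1, by
      obtain ⟨j, hj⟩ := hm.2
      exact ⟨j, by rw [← map_pow, hj, map_one]⟩⟩
    have hp : IsPGroup r P₀ := fun m => by
      obtain ⟨j, hj⟩ := m.2.2
      exact ⟨j, Subtype.ext hj⟩
    intro w
    obtain ⟨i, hi⟩ := hq (w : W ⧸ P₀)
    rw [← QuotientGroup.mk_pow, QuotientGroup.eq_one_iff] at hi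
    obtain ⟨j, hj⟩ := hi.2
    exact ⟨i + j, by rw [pow_add, pow_mul, hj]⟩

end RGroup

end Cfsg.Agent.Lib.GorensteinWalter.Four.Plane
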