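import Cfsg.Agent.Lib.GorensteinWalter.Four.Plane.Extraspecial

/-!
# Gorenstein–Walter, section 3 for `|S| = 4`: coordinates in the extraspecial subgroup
-/

set_option autoImplicit false
set_option linter.unusedSectionVars false
set_option linter.style.haveILetI false

namespace Cfsg.Agent.Lib.GorensteinWalter.Four.Plane

open Cfsg.Agent.Lib.Fusion.Dihedral
open scoped commutatorElement

universe u

variable {G : Type u} [Group G] [Finite G] {V : Subgroup G} {t a : G}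
variable {r : ℕ} [hr : Fact r.Prime] {B : Subgroup G} {x y z : G}
variable (h : FourSetting V t a) (E : ExData V t a r B x y z)
include h E

theorem ex_z_comm {g : G} (hg : g ∈ B) : Commute g z := E.z_central g (E.inv.le hg)

theorem ex_x_ne : x ≠ 1 := fun e => hr.out.ne_one (by rw [← E.x_order, e, orderOf_one])

theorem ex_z_ne : z ≠ 1 := fun e => hr.out.ne_one (by rw [← E.z_order, e, orderOf_one])

theorem ex_x_fix : a * x = x * a := ((mem_core_iff h).1 E.x_core).2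

theorem ex_mem (i j l : ℕ) : x ^ i * (y ^ j * z ^ l) ∈ B :=
  mul_mem (pow_mem E.x_mem i) (mul_mem (pow_mem E.y_mem j) (pow_mem E.z_mem l))

theorem ex_inverted_pow (j l : ℕ) : a * (y ^ j * z ^ l) * a⁻¹ = (y ^ j * z ^ l)⁻¹ := by
  rw [show a * (y ^ j * z ^ l) * a⁻¹ = a * y ^ j * a⁻¹ * (a * z ^ l * a⁻¹) by group, ← conj_pow, ← conj_pow,
    E.y_inv, E.z_inv, ((show Commute y z from E.yz).pow_pow j l).mul_inv, inv_pow, inv_pow]

/-- The commutator with `x` generates `⟨z⟩`. -/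
theorem exists_shift :
    ∃ c : G, c ∈ Subgroup.zpowers z ∧ orderOf c = r ∧ Commute x c ∧ Commute y c ∧
      (∀ w ∈ Subgroup.zpowers z, ∃ k : ℕ, w = c ^ k) ∧
      ∀ i j : ℕ, x ^ i * y ^ j * (x ^ i)⁻¹ = y ^ j * c ^ (i * j) := by
  obtain ⟨c, hc, hc1, hs⟩ := E.shift
  obtain ⟨m, hm⟩ := exists_pow_of_mem_zpowers h hc
  have hco : orderOf c = r :=
    orderOf_eq_prime (E.exponent c ((Subgroup.zpowers_le.2 E.z_mem) hc)) hc1
  have hxc : Commute x c := hm ▸ (ex_z_comm h E E.x_mem).pow_right m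
  have hyc : Commute y c := hm ▸ (ex_z_comm h E E.y_mem).pow_right m
  refine ⟨c, hc, hco, hxc, hyc, fun w hw => exists_pow_of_mem_zpowers h ?_, conj_pow_shift hs hxc hyc⟩
  rw [Subgroup.eq_of_le_of_card_ge (Subgroup.zpowers_le.2 hc)
    (by rw [Nat.card_zpowers, Nat.card_zpowers, hco, E.z_order])]
  exact hw

theorem y_notMem : y ∉ Subgroup.zpowers z := by
  intro hy
  obtain ⟨c, -, hc1, hs⟩ := E.shift
  obtain ⟨m, hm⟩ := exists_pow_of_mem_zpowers h hy
  refine hc1 ?_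
  rw [mul_conj_fixed (by rw [hm]; exact ((ex_z_comm h E E.x_mem).pow_right m).eq)] at hs
  exact mul_eq_left.1 hs.symm

/-- An element `x^i (y^j z^l)` with the same `x`-part. -/
theorem coord_unique {i i' j j' l l' : ℕ}
    (he : x ^ i * (y ^ j * z ^ l) = x ^ i' * (y ^ j' * z ^ l')) :
    i ≡ i' [MOD r] ∧ j ≡ j' [MOD r] ∧ l ≡ l' [MOD r] := by
  set w := y ^ j * z ^ l with hw
  set w' := y ^ j' * z ^ l' with hw'
  have hwB : w ∈ B := mul_mem (pow_mem E.y_mem j) (pow_mem E.z_mem l)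
  have hw'B : w' ∈ B := mul_mem (pow_mem E.y_mem j') (pow_mem E.z_mem l')
  have ha : x ^ i * w⁻¹ = x ^ i' * w'⁻¹ := by
    have h1 := congrArg (fun g => a * g * a⁻¹) he
    have hi : ∀ k, a * x ^ k * a⁻¹ = x ^ k := fun k => by
      rw [← conj_pow, mul_conj_fixed (ex_x_fix h E)]
    rwa [show a * (x ^ i * w) * a⁻¹ = a * x ^ i * a⁻¹ * (a * w * a⁻¹) by group,
      show a * (x ^ i' * w') * a⁻¹ = a * x ^ i' * a⁻¹ * (a * w' * a⁻¹) by group, hi, hi, hw,
      ex_inverted_pow h E, ← hw, hw', ex_inverted_pow h E] at h1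
  have hsq : w * w = w' * w' := by
    calc w * w = (x ^ i * w⁻¹)⁻¹ * (x ^ i * w) := by group
      _ = w' * w' := by rw [ha, he]; group
  have hweq : w = w' := by
    obtain ⟨k, hk⟩ := hr.out.odd_of_ne_two (fun e : r = 2 => by
      have h1 := core_odd h (E.inv.le E.x_mem)
      rw [E.x_order, e] at h1
      exact Nat.not_odd_iff_even.2 even_two h1)
    have e1 : (w * w) ^ (k + 1) = w := by
      rw [← sq, ← pow_mul, show 2 * (k + 1) = r + 1 by omega, pow_succ, E.exponent w hwB, one_mul]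
    have e2 : (w' * w') ^ (k + 1) = w' := by
      rw [← sq, ← pow_mul, show 2 * (k + 1) = r + 1 by omega, pow_succ, E.exponent w' hw'B, one_mul]
    rw [← e1, hsq, e2]
  rw [hweq] at he
  have hi : x ^ i = x ^ i' := mul_right_cancel he
  obtain ⟨c, -, hco, hxc, -, -, hshift⟩ := exists_shift h E
  have hz : ∀ k, x * z ^ k * x⁻¹ = z ^ k := fun k =>
    mul_conj_fixed ((ex_z_comm h E E.x_mem).pow_right k).eq
  have hconj : ∀ j l : ℕ, x * (y ^ j * z ^ l) * x⁻¹ = y ^ j * z ^ l * c ^ j := fun j l => by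
    have h1 := hshift 1 j
    rw [pow_one, one_mul] at h1
    rw [show x * (y ^ j * z ^ l) * x⁻¹ = x * y ^ j * x⁻¹ * (x * z ^ l * x⁻¹) by group, h1, hz, mul_assoc,
      mul_assoc]
    congr 1
    have hcB : c ∈ B := by
      have h2 := hshift 1 1
      rw [pow_one, pow_one, one_mul, pow_one] at h2
      rw [show c = y⁻¹ * (x * y * x⁻¹) by rw [h2, inv_mul_cancel_left]]
      exact mul_mem (inv_mem E.y_mem) (mul_mem (mul_mem E.x_mem E.y_mem) (inv_mem E.x_mem))
    exact ((ex_z_comm h E hcB).pow_pow j l).eq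
  have hj : c ^ j = c ^ j' := by
    have h1 := hconj j l
    rw [← hw, hweq, hw', hconj j' l'] at h1
    exact (mul_left_cancel h1).symm
  have hjm : j ≡ j' [MOD r] := hco ▸ pow_eq_pow_iff_modEq.1 hj
  refine ⟨E.x_order ▸ pow_eq_pow_iff_modEq.1 hi, hjm, E.z_order ▸ pow_eq_pow_iff_modEq.1 ?_⟩
  have hy : y ^ j = y ^ j' := pow_eq_pow_iff_modEq.2 (hjm.of_dvd (orderOf_dvd_of_pow_eq_one (E.exponent y E.y_mem)))
  rw [hw, hw', hy] at hweq
  exact mul_left_cancel hweq

/-- Powers. -/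
theorem exists_pow_coord (i j l e : ℕ) :
    ∃ m : ℕ, (x ^ i * (y ^ j * z ^ l)) ^ e = x ^ (i * e) * (y ^ (j * e) * z ^ m) := by
  set p := x ^ i with hp
  set w := y ^ j * z ^ l with hw
  have hpB : p ∈ B := pow_mem E.x_mem i
  have hwB : w ∈ B := mul_mem (pow_mem E.y_mem j) (pow_mem E.z_mem l)
  have hc : ⁅w, p⁆ ∈ Subgroup.zpowers z := by
    rw [commutatorElement_def]; exact E.comm w hwB p hpB
  obtain ⟨m, hm⟩ := exists_pow_of_mem_zpowers h hc
  refine ⟨l * e + m * e.choose 2, ?_⟩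
  rw [PGroups.mul_pow_of_central_commutator p w (hm ▸ (ex_z_comm h E hpB).pow_right m)
    (hm ▸ (ex_z_comm h E hwB).pow_right m), hm, hp, ← pow_mul, hw,
    ((show Commute y z from E.yz).pow_pow j l).mul_pow, ← pow_mul, ← pow_mul, ← pow_mul, mul_assoc,
    mul_assoc, ← pow_add]

theorem ex_exponent_mod {g : G} (hg : g ∈ B) (k : ℕ) : g ^ (k % r) = g ^ k :=
  (pow_eq_pow_mod k (E.exponent g hg)).symm

/-- A conjugate of `x` has a nontrivial `x`-part. -/
theorem conj_x_coord {o : G} (ho : o ∈ coreC t) {i j l : ℕ} (he : o * x * o⁻¹ = x ^ i * (y ^ j * z ^ l)) :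
    ¬ r ∣ i := by
  rintro ⟨m, rfl⟩
  rw [pow_mul, E.exponent x E.x_mem, one_pow, one_mul] at he
  refine ex_x_ne h E (eq_one_of_conj_inverted h E.x_core ho ?_)
  rw [he]; exact ex_inverted_pow h E j l

/-- Lines of the extraspecial case. -/
theorem exists_line_coord {X : Subgroup G} (hX : X ∈ lines t x) :
    ∃ j l : ℕ, X = Subgroup.zpowers (x * (y ^ j * z ^ l)) := by
  obtain ⟨o, ho, rfl⟩ := exists_conj_of_line h E.x_core (E.x_order ▸ hr.out) hX
  obtain ⟨i, j, l, hij⟩ := E.dec _ (E.inv.conj o ho x E.x_mem)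
  obtain ⟨e, he⟩ := exists_pow_eq_self_of_coprime (n := i) (x := x)
    (by rw [E.x_order]; exact (hr.out.coprime_iff_not_dvd.2 (conj_x_coord h E ho hij)).symm)
  obtain ⟨m, hm⟩ := exists_pow_coord h E i j l e
  refine ⟨j * e, m, ?_⟩
  rw [pow_mul, he, ← hij] at hm
  rw [← hm]
  refine (Subgroup.eq_of_le_of_card_ge (Subgroup.zpowers_le.2 (pow_mem (Subgroup.mem_zpowers _) e)) ?_).symm
  have ho1 : orderOf (o * x * o⁻¹) = r := (MulEquiv.orderOf_eq (MulAut.conj o) x).trans E.x_order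
  rw [Nat.card_zpowers, Nat.card_zpowers, ho1]
  refine (orderOf_eq_prime (E.exponent _ (pow_mem (E.inv.conj o ho x E.x_mem) e)) fun e1 => ?_).ge
  rw [hm] at e1
  have h1 := coord_unique h E (i := 1) (j := j * e) (l := m) (i' := 0) (j' := 0) (l' := 0)
    (by rw [pow_one, pow_zero, pow_zero, pow_zero, one_mul, one_mul]; exact e1)
  have h2 := (Nat.modEq_zero_iff_dvd.1 h1.1)
  exact hr.out.ne_one (Nat.eq_one_of_dvd_one h2)

theorem line_of_exData : Line V t a r x ∧ (lines t x).ncard ≤ r ^ 2 := by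
  classical
  refine ⟨⟨E.x_core, E.x_order, fun d hd => ?_, fun X hX hne => ?_⟩, ?_⟩
  · have hdO := core_le h hd
    obtain ⟨i, j, l, hij⟩ := E.dec _ (E.inv.conj d hdO x E.x_mem)
    have hfix : a * (d * x * d⁻¹) * a⁻¹ = d * x * d⁻¹ := by
      rw [show a * (d * x * d⁻¹) * a⁻¹ = a * d * a⁻¹ * (a * x * a⁻¹) * (a * d * a⁻¹)⁻¹ by group,
        mul_conj_fixed ((mem_core_iff h).1 hd).2, mul_conj_fixed (ex_x_fix h E)]
    have hw : y ^ j * z ^ l = 1 := by
      refine eq_one_of_both h (E.inv.le (mul_mem (pow_mem E.y_mem j) (pow_mem E.z_mem l)))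
        (mul_inv_eq_iff_eq_mul.1 ?_) (ex_inverted_pow h E j l)
      rw [show y ^ j * z ^ l = (x ^ i)⁻¹ * (d * x * d⁻¹) by rw [hij, inv_mul_cancel_left],
        show a * ((x ^ i)⁻¹ * (d * x * d⁻¹)) * a⁻¹ = (a * x ^ i * a⁻¹)⁻¹ * (a * (d * x * d⁻¹) * a⁻¹) by group,
        ← conj_pow, mul_conj_fixed (ex_x_fix h E), hfix]
    rw [hw, mul_one] at hij
    refine Subgroup.mem_normalizer_fintype fun w hw => ?_
    obtain ⟨m, rfl⟩ := Subgroup.mem_zpowers_iff.1 hw
    rw [SetLike.mem_coe, ← conj_zpow, hij]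
    exact zpow_mem (pow_mem (Subgroup.mem_zpowers x) i) m
  · obtain ⟨j, l, rfl⟩ := exists_line_coord h E hX
    refine ⟨z, ?_, E.z_order, (ex_z_comm h E E.x_mem).eq.symm, E.z_inv⟩
    set S := Subgroup.zpowers x ⊔ Subgroup.zpowers (x * (y ^ j * z ^ l))
    have hxS : x ∈ S := Subgroup.mem_sup_left (Subgroup.mem_zpowers x)
    have hwS : y ^ j * z ^ l ∈ S := by
      have h1 := mul_mem (inv_mem hxS) (Subgroup.mem_sup_right (S := Subgroup.zpowers x)
        (Subgroup.mem_zpowers (x * (y ^ j * z ^ l))))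
      rwa [inv_mul_cancel_left] at h1
    obtain ⟨c, hc, hco, hxc, hyc, hgen, hshift⟩ := exists_shift h E
    by_cases hj : r ∣ j
    · obtain ⟨q, rfl⟩ := hj
      rw [pow_mul, E.exponent y E.y_mem, one_pow, one_mul] at hwS hne
      have hl : ¬ r ∣ l := fun ⟨q', hq'⟩ => hne (by rw [hq', pow_mul, E.exponent z E.z_mem, one_pow, mul_one])
      obtain ⟨e, he⟩ := exists_pow_eq_self_of_coprime (n := l) (x := z)
        (by rw [E.z_order]; exact (hr.out.coprime_iff_not_dvd.2 hl).symm)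
      exact he ▸ pow_mem hwS e
    · have hcj : c ^ j ∈ S := by
        have h1 := hshift 1 j
        rw [pow_one, one_mul] at h1
        have h2 : c ^ j = (y ^ j * z ^ l)⁻¹ * (x * (y ^ j * z ^ l) * x⁻¹) := by
          rw [show x * (y ^ j * z ^ l) * x⁻¹ = x * y ^ j * x⁻¹ * (x * z ^ l * x⁻¹) by group, h1,
            mul_conj_fixed ((ex_z_comm h E E.x_mem).pow_right l).eq, _root_.mul_inv_rev]
          obtain ⟨m, hm⟩ := exists_pow_of_mem_zpowers h hc
          rw [hm, ← pow_mul, mul_assoc (y ^ j), ← pow_add, add_comm, pow_add]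
          group
        rw [h2]
        exact mul_mem (inv_mem hwS) (mul_mem (mul_mem hxS hwS) (inv_mem hxS))
      obtain ⟨e, he⟩ := exists_pow_eq_self_of_coprime (n := j) (x := c)
        (by rw [hco]; exact (hr.out.coprime_iff_not_dvd.2 hj).symm)
      have hcS : c ∈ S := he ▸ pow_mem hcj e
      have heq : Subgroup.zpowers c = Subgroup.zpowers z := Subgroup.eq_of_le_of_card_ge
        (Subgroup.zpowers_le.2 hc) (by rw [Nat.card_zpowers, Nat.card_zpowers, hco, E.z_order])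
      exact (Subgroup.zpowers_le.2 hcS) (heq ▸ Subgroup.mem_zpowers z)
  · calc (lines t x).ncard ≤ (Set.range fun p : Fin r × Fin r =>
          Subgroup.zpowers (x * (y ^ (p.1 : ℕ) * z ^ (p.2 : ℕ)))).ncard := by
          refine Set.ncard_le_ncard ?_ (Set.toFinite _)
          intro X hX
          obtain ⟨j, l, rfl⟩ := exists_line_coord h E hX
          exact ⟨(⟨j % r, Nat.mod_lt _ hr.out.pos⟩, ⟨l % r, Nat.mod_lt _ hr.out.pos⟩), by
            simp only; rw [ex_exponent_mod h E E.y_mem, ex_exponent_mod h E E.z_mem]⟩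
      _ ≤ r ^ 2 := by
          rw [← Nat.card_coe_set_eq]
          exact (Finite.card_range_le _).trans (le_of_eq (by rw [Nat.card_prod, Nat.card_fin, sq]))

theorem card_exData : Nat.card B = r ^ 3 := by
  rw [show r ^ 3 = Nat.card (Fin r × Fin r × Fin r) by
    rw [Nat.card_prod, Nat.card_prod, Nat.card_fin]; ring]
  refine (Nat.card_congr (Equiv.ofBijective (fun p : Fin r × Fin r × Fin r =>
    (⟨x ^ (p.1 : ℕ) * (y ^ (p.2.1 : ℕ) * z ^ (p.2.2 : ℕ)), ex_mem h E _ _ _⟩ : ↥B)) ⟨?_, ?_⟩)).symm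
  · rintro ⟨i, j, l⟩ ⟨i', j', l'⟩ he
    obtain ⟨h1, h2, h3⟩ := coord_unique h E (congrArg Subtype.val he)
    exact Prod.ext (Fin.ext (h1.eq_of_lt_of_lt i.2 i'.2))
      (Prod.ext (Fin.ext (h2.eq_of_lt_of_lt j.2 j'.2)) (Fin.ext (h3.eq_of_lt_of_lt l.2 l'.2)))
  · rintro ⟨g, hg⟩
    obtain ⟨i, j, l, rfl⟩ := E.dec g hg
    exact ⟨(⟨i % r, Nat.mod_lt _ hr.out.pos⟩, ⟨j % r, Nat.mod_lt _ hr.out.pos⟩,
      ⟨l % r, Nat.mod_lt _ hr.out.pos⟩), Subtype.ext (by
        simp only [ex_exponent_mod h E E.x_mem, ex_exponent_mod h E E.y_mem, ex_exponent_mod h E E.z_mem])⟩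

theorem cent_exData {g : G} (hg : g ∈ B) (hgx : g * x = x * g) :
    g ∈ Subgroup.zpowers x ⊔ Subgroup.zpowers z := by
  obtain ⟨i, j, l, rfl⟩ := E.dec g hg
  obtain ⟨c, hc, hco, hxc, hyc, hgen, hshift⟩ := exists_shift h E
  have hcj : c ^ j = 1 := by
    have h1 : x * (x ^ i * (y ^ j * z ^ l)) * x⁻¹ = x ^ i * (y ^ j * z ^ l) := mul_conj_fixed hgx.symm
    have h2 := hshift 1 j
    rw [pow_one, one_mul] at h2
    rw [show x * (x ^ i * (y ^ j * z ^ l)) * x⁻¹ = x * x ^ i * x⁻¹ * (x * y ^ j * x⁻¹ * (x * z ^ l * x⁻¹)) by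
        group, mul_conj_fixed ((Commute.refl x).pow_right i).eq, h2,
      mul_conj_fixed ((ex_z_comm h E E.x_mem).pow_right l).eq] at h1
    have h3 := mul_left_cancel h1
    rw [mul_assoc] at h3
    exact mul_eq_right.1 (mul_left_cancel h3)
  obtain ⟨q, hq⟩ := hco ▸ orderOf_dvd_of_pow_eq_one hcj
  rw [hq, pow_mul, E.exponent y E.y_mem, one_pow, one_mul]
  exact mul_mem (Subgroup.mem_sup_left (pow_mem (Subgroup.mem_zpowers x) i))
    (Subgroup.mem_sup_right (pow_mem (Subgroup.mem_zpowers z) l))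

end Cfsg.Agent.Lib.GorensteinWalter.Four.Plane
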