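import Cfsg.Agent.Lib.GorensteinWalter.Four.Plane.Abelian
import Cfsg.Agent.Lib.PGroups.MaxAbelian

/-!
# Gorenstein–Walter, section 3 for `|S| = 4`: the extraspecial case

If no elementary abelian normal subgroup meets `D`, a smallest normal `r`-subgroup `B` meeting `D` is
extraspecial of order `r³` and exponent `r`.
-/

set_option autoImplicit false
set_option linter.unusedSectionVars false
set_option linter.style.haveILetI false

namespace Cfsg.Agent.Lib.GorensteinWalter.Four.Plane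

open Cfsg.Agent.Lib.Fusion.Dihedral
open scoped commutatorElement

universe u

variable {G : Type u} [Group G] [Finite G] {V : Subgroup G} {t a : G}

/-- `B = ⟨x, y, z⟩` extraspecial of order `r³`, normal in `C(t)`, with `x ∈ D` and `y`, `z` inverted. -/
structure ExData (V : Subgroup G) (t a : G) (r : ℕ) (B : Subgroup G) (x y z : G) : Prop where
  inv : InvSub t a B
  exponent : ∀ g ∈ B, g ^ r = 1
  x_mem : x ∈ B
  y_mem : y ∈ B
  z_mem : z ∈ B
  x_core : x ∈ coreV V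
  x_order : orderOf x = r
  z_order : orderOf z = r
  y_inv : a * y * a⁻¹ = y⁻¹
  z_inv : a * z * a⁻¹ = z⁻¹
  z_central : ∀ o ∈ coreC t, o * z = z * o
  comm : ∀ g ∈ B, ∀ w ∈ B, g * w * g⁻¹ * w⁻¹ ∈ Subgroup.zpowers z
  yz : y * z = z * y
  shift : ∃ c ∈ Subgroup.zpowers z, c ≠ 1 ∧ x * y * x⁻¹ = y * c
  dec : ∀ g ∈ B, ∃ i j l : ℕ, g = x ^ i * (y ^ j * z ^ l)
  inverted : ∀ g ∈ B, a * g * a⁻¹ = g⁻¹ → ∃ j l : ℕ, g = y ^ j * z ^ l

/-- `u v u⁻¹ = v c` with `c` commuting with `u` and `v`. -/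
theorem conj_pow_shift {M : Type u} [Group M] {p v c : M} (hs : p * v * p⁻¹ = v * c) (hpc : Commute p c)
    (hvc : Commute v c) (i j : ℕ) : p ^ i * v ^ j * (p ^ i)⁻¹ = v ^ j * c ^ (i * j) := by
  induction i with
  | zero => simp
  | succ i ih =>
    calc p ^ (i + 1) * v ^ j * (p ^ (i + 1))⁻¹ = p * (p ^ i * v ^ j * (p ^ i)⁻¹) * p⁻¹ := by
          rw [pow_succ' p i]; group
      _ = p * v ^ j * p⁻¹ * (p * c ^ (i * j) * p⁻¹) := by rw [ih]; group
      _ = v ^ j * c ^ ((i + 1) * j) := by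
          rw [← conj_pow, hs, hvc.mul_pow, (hpc.pow_right (i * j)).eq, mul_inv_cancel_right, mul_assoc, ← pow_add]
          ring_nf

variable (h : FourSetting V t a)
include h

theorem exists_pow_of_mem_zpowers {z w : G} (hw : w ∈ Subgroup.zpowers z) : ∃ m : ℕ, w = z ^ m := by
  obtain ⟨m, hm⟩ := mem_powers_iff_mem_zpowers.2 hw
  exact ⟨m, hm.symm⟩

section

variable {r : ℕ} [hr : Fact r.Prime]

/-- Without an elementary abelian normal subgroup meeting `D` there is an extraspecial one. -/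
theorem exists_exData (hMK : PropModelKlein.{u}) (hr2 : r ≠ 2) (hrd : r ∣ Nat.card (coreV V))
    {Q : Subgroup G} (hQ : InvSub t a Q) (hQp : IsPGroup r Q)
    (hQfix : ∃ x ∈ Q, x ≠ 1 ∧ a * x = x * a)
    (hno : ∀ K : Subgroup G, ElemSub t a r K → ∀ k ∈ K, a * k = k * a → k = 1) :
    ∃ (B : Subgroup G) (x y z : G), ExData V t a r B x y z := by
  classical
  have hoddQ : ∀ g ∈ Q, Odd (orderOf g) := fun g hg => core_odd h (hQ.le hg)
  -- a power of order `r`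
  have hpow : ∀ g ∈ Q, g ≠ 1 → ∃ n : ℕ, orderOf (g ^ n) = r := by
    intro g hg hg1
    obtain ⟨k, hk⟩ := IsPGroup.iff_orderOf.1 hQp ⟨g, hg⟩
    rw [Subgroup.orderOf_mk] at hk
    have hk0 : k ≠ 0 := fun e => hg1 (orderOf_eq_one_iff.1 (by rw [hk, e, pow_zero]))
    exact ⟨orderOf g / r, orderOf_pow_orderOf_div (orderOf_pos g).ne' (hk ▸ dvd_pow_self r hk0)⟩
  obtain ⟨x₀, hx₀, hx₀1, hx₀a⟩ := hQfix
  obtain ⟨x₁, hx₁, hx₁o, hx₁a⟩ : ∃ x₁ ∈ Q, orderOf x₁ = r ∧ a * x₁ = x₁ * a := by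
    obtain ⟨n, hn⟩ := hpow x₀ hx₀ hx₀1
    exact ⟨x₀ ^ n, pow_mem hx₀ n, hn, ((show Commute a x₀ from hx₀a).pow_right n).eq⟩
  have hx₁D : x₁ ∈ coreV V := (mem_core_iff h).2 ⟨hQ.le hx₁, hx₁a⟩
  -- the elements of order `r` of the centre of `Q`
  let Z₁ : Subgroup G :=
    { carrier := {g | g ∈ Q ∧ (∀ w ∈ Q, g * w = w * g) ∧ g ^ r = 1}
      one_mem' := ⟨one_mem _, fun w _ => by rw [one_mul, mul_one], one_pow r⟩
      mul_mem' := by
        rintro g g' ⟨hg, hgc, hgr⟩ ⟨hg', hg'c, hg'r⟩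
        exact ⟨mul_mem hg hg', fun w hw => ((show Commute g w from hgc w hw).mul_left (hg'c w hw)).eq,
          by rw [(show Commute g g' from hgc g' hg').mul_pow, hgr, hg'r, one_mul]⟩
      inv_mem' := by
        rintro g ⟨hg, hgc, hgr⟩
        exact ⟨inv_mem hg, fun w hw => (show Commute g w from hgc w hw).inv_left.eq,
          by rw [inv_pow, hgr, inv_one]⟩ }
  have hconjQ : ∀ c : G, (∀ w ∈ Q, c * w * c⁻¹ ∈ Q) → ∀ w ∈ Q, ∃ v ∈ Q, w = c * v * c⁻¹ := by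
    intro c hc w hw
    have hn : c ∈ Subgroup.normalizer (Q : Set G) := Subgroup.mem_normalizer_fintype hc
    exact ⟨c⁻¹ * w * c, (Subgroup.mem_normalizer_iff''.1 hn w).1 hw, by group⟩
  have hZ₁c : ∀ c : G, (∀ w ∈ Q, c * w * c⁻¹ ∈ Q) → ∀ g ∈ Z₁, c * g * c⁻¹ ∈ Z₁ := by
    rintro c hc g ⟨hg, hgc, hgr⟩
    refine ⟨hc g hg, fun w hw => ?_, by rw [conj_pow, hgr, mul_one, mul_inv_cancel]⟩
    obtain ⟨v, hv, rfl⟩ := hconjQ c hc w hw
    calc c * g * c⁻¹ * (c * v * c⁻¹) = c * (g * v) * c⁻¹ := by group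
      _ = c * v * c⁻¹ * (c * g * c⁻¹) := by rw [hgc v hv]; group
  have hZ₁inv : InvSub t a Z₁ :=
    { le := fun g hg => hQ.le hg.1
      conj := fun o ho g hg => hZ₁c o (fun w hw => hQ.conj o ho w hw) g hg
      conj_a := fun g hg => hZ₁c a hQ.conj_a g hg }
  have hZ₁el : ElemSub t a r Z₁ :=
    { hZ₁inv with comm := fun g hg w hw => hg.2.1 w hw.1, exponent := fun g hg => hg.2.2 }
  have hZ₁i : ∀ g ∈ Z₁, a * g * a⁻¹ = g⁻¹ :=
    inverts_of_fixed_bot (Odd.of_dvd_nat (coreC_odd t) (Subgroup.card_dvd_of_le hZ₁inv.le)) (ctx h).a_sq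
      hZ₁inv.conj_a fun g hg hga => hno Z₁ hZ₁el g hg hga
  obtain ⟨z, hz, hzo⟩ : ∃ z ∈ Z₁, orderOf z = r := by
    haveI : Nontrivial Q := (Subgroup.nontrivial_iff_ne_bot Q).2 fun e => hx₀1 (by
      rw [e] at hx₀; exact Subgroup.mem_bot.1 hx₀)
    haveI := hQp.center_nontrivial
    obtain ⟨w, hw⟩ := exists_ne (1 : Subgroup.center Q)
    obtain ⟨n, hn⟩ := hpow ((w : Q) : G) (w : Q).2 fun e => hw (Subtype.ext (Subtype.ext e))
    refine ⟨((w : Q) : G) ^ n, ⟨pow_mem (w : Q).2 n, fun v hv => ?_, ?_⟩, hn⟩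
    · exact (Commute.pow_left (show Commute ((w : Q) : G) v from
        (congrArg Subtype.val (Subgroup.mem_center_iff.1 w.2 ⟨v, hv⟩)).symm) n).eq
    · have h1 := pow_orderOf_eq_one (((w : Q) : G) ^ n)
      rwa [hn] at h1
  have hzc := commute_of_inverted h hZ₁inv hZ₁i
  have hz1 : z ≠ 1 := fun e => by rw [e, orderOf_one] at hzo; exact hr.out.ne_one hzo.symm
  have hZ₁z : ∀ g ∈ Z₁, g ∈ Subgroup.zpowers z := fun g hg =>
    mem_zpowers_of_inverted h hMK hr.out hrd hx₁D (hx₁o ▸ hr.out) (hZ₁inv.le hg) (hZ₁inv.le hz)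
      (hg.2.1 x₁ hx₁) (hz.2.1 x₁ hx₁) (hZ₁i g hg) (hZ₁i z hz) hg.2.2 hz.2.2 hz1 (hg.2.1 z hz.1)
  -- a minimal subgroup
  obtain ⟨B, hBle, hBmin⟩ := exists_minimal_le_of_wellFoundedLT
    (fun B : Subgroup G => InvSub t a B ∧ B ≤ Q ∧ ∃ g ∈ B, g ≠ 1 ∧ a * g = g * a) Q
    ⟨hQ, le_rfl, x₀, hx₀, hx₀1, hx₀a⟩
  obtain ⟨hB, hBQ, g₀, hg₀, hg₀1, hg₀a⟩ := hBmin.1
  have hBodd : Odd (Nat.card B) := Odd.of_dvd_nat (coreC_odd t) (Subgroup.card_dvd_of_le hB.le)
  -- proper invariant subgroups are central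
  have hprop : ∀ W : Subgroup G, InvSub t a W → W ≤ B → W ≠ B →
      ∀ w ∈ W, ∀ v ∈ Q, w * v = v * w := by
    intro W hW hWB hne w hw v hv
    refine (commute_of_inverted h hW (inverts_of_fixed_bot
      (hBodd.of_dvd_nat (Subgroup.card_dvd_of_le hWB)) (ctx h).a_sq hW.conj_a fun g hg hga => ?_)
      v (hQ.le hv) w hw).symm
    by_contra hg1
    exact hne (le_antisymm hWB (hBmin.2 ⟨hW, hWB.trans hBQ, g, hg, hg1, hga⟩ hWB))
  -- the derived group
  set B' := ⁅B, B⁆ with hB'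
  have hB'B : B' ≤ B := Subgroup.commutator_le.2 fun g hg w hw => by
    rw [commutatorElement_def]
    exact mul_mem (mul_mem (mul_mem hg hw) (inv_mem hg)) (inv_mem hw)
  have hmapB : ∀ c : G, (∀ g ∈ B, c * g * c⁻¹ ∈ B) → ∀ g ∈ B', c * g * c⁻¹ ∈ B' := by
    intro c hc g hg
    have h1 : B'.map (MulAut.conj c).toMonoidHom ≤ B' := by
      rw [hB', Subgroup.map_commutator]
      have hle : B.map (MulAut.conj c).toMonoidHom ≤ B := by
        rintro _ ⟨w, hw, rfl⟩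
        exact hc w hw
      exact Subgroup.commutator_mono hle hle
    exact h1 ⟨g, hg, rfl⟩
  have hB'inv : InvSub t a B' := ⟨hB'B.trans hB.le, fun o ho => hmapB o fun g hg => hB.conj o ho g hg,
    fun g hg => hmapB a hB.conj_a g hg⟩
  have hB'ne : B' ≠ B := by
    intro e
    haveI : Group.IsNilpotent B := (hQp.to_le hBQ).isNilpotent
    haveI : Group.IsSolvable B := inferInstance
    have hne : (⊤ : Subgroup B) ≠ ⊥ := fun e' => hg₀1 (congrArg Subtype.val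
      (Subgroup.mem_bot.1 (show (⟨g₀, hg₀⟩ : ↥B) ∈ (⊥ : Subgroup ↥B) by
        rw [← e']; exact Subgroup.mem_top _)))
    have h1 := Group.IsSolvable.commutator_lt_of_ne_bot hne
    refine h1.ne ?_
    apply Subgroup.map_injective B.subtype_injective
    rw [Subgroup.map_commutator, ← MonoidHom.range_eq_map, Subgroup.range_subtype]
    exact e
  have hcen : ∀ g ∈ B, ∀ w ∈ B, ∀ v ∈ Q, Commute ⁅g, w⁆ v := fun g hg w hw v hv =>
    hprop B' hB'inv hB'B hB'ne _ (Subgroup.commutator_mem_commutator hg hw) v hv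
  -- exponent `r`
  let Ω : Subgroup G :=
    { carrier := {g | g ∈ B ∧ g ^ r = 1}
      one_mem' := ⟨one_mem _, one_pow r⟩
      mul_mem' := by
        rintro g w ⟨hg, hgr⟩ ⟨hw, hwr⟩
        refine ⟨mul_mem hg hw, ?_⟩
        have h1 : ⁅w, g⁆ ^ r = 1 := by
          rw [← PGroups.commutatorElement_pow_left_of_central w g (hcen w hw g hg w (hBQ hw)).symm, hwr]
          simp [commutatorElement_def]
        obtain ⟨m, hm⟩ : r ∣ r.choose 2 :=
          hr.out.dvd_choose_self two_ne_zero (lt_of_le_of_ne hr.out.two_le (Ne.symm hr2))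
        rw [PGroups.mul_pow_of_central_commutator g w (hcen w hw g hg g (hBQ hg)).symm
          (hcen w hw g hg w (hBQ hw)).symm, hgr, hwr, hm, pow_mul, h1, one_pow, one_mul, one_mul]
      inv_mem' := by
        rintro g ⟨hg, hgr⟩
        exact ⟨inv_mem hg, by rw [inv_pow, hgr, inv_one]⟩ }
  have hΩc : ∀ c : G, (∀ g ∈ B, c * g * c⁻¹ ∈ B) → ∀ g ∈ Ω, c * g * c⁻¹ ∈ Ω := fun c hc g hg =>
    ⟨hc g hg.1, by rw [conj_pow, hg.2, mul_one, mul_inv_cancel]⟩
  obtain ⟨n, hn⟩ := hpow g₀ (hBQ hg₀) hg₀1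
  set x := g₀ ^ n with hx
  have hxB : x ∈ B := pow_mem hg₀ n
  have hxa : a * x = x * a := ((show Commute a g₀ from hg₀a).pow_right n).eq
  have hx1 : x ≠ 1 := fun e => by rw [e, orderOf_one] at hn; exact hr.out.ne_one hn.symm
  have hexp : ∀ g ∈ B, g ^ r = 1 := fun g hg =>
    (hBmin.2 (y := Ω) ⟨⟨fun w hw => hB.le hw.1, fun o ho => hΩc o fun w hw => hB.conj o ho w hw,
      fun w hw => hΩc a hB.conj_a w hw⟩, fun w hw => hBQ hw.1, x,
      ⟨hxB, by have := pow_orderOf_eq_one x; rwa [hn] at this⟩, hx1, hxa⟩ (fun w hw => hw.1) hg).2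
  have hsmall : ∀ W : Subgroup G, InvSub t a W → W ≤ B → W ≠ B → W ≤ Subgroup.zpowers z :=
    fun W hW hWB hne w hw => hZ₁z w ⟨hBQ (hWB hw), hprop W hW hWB hne w hw, hexp w (hWB hw)⟩
  have hxD : x ∈ coreV V := (mem_core_iff h).2 ⟨hB.le hxB, hxa⟩
  have hnab : ¬ ∀ g ∈ B, ∀ w ∈ B, g * w = w * g := fun hab =>
    hx1 (hno B { hB with comm := hab, exponent := hexp } x hxB hxa)
  have hB'z : B' ≤ Subgroup.zpowers z := hsmall B' hB'inv hB'B hB'ne
  have hcomm : ∀ g ∈ B, ∀ w ∈ B, g * w * g⁻¹ * w⁻¹ ∈ Subgroup.zpowers z := fun g hg w hw =>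
    hB'z (by rw [← commutatorElement_def]; exact Subgroup.commutator_mem_commutator hg hw)
  have hzB : z ∈ B := by
    by_contra hzB
    refine hnab fun g hg w hw => ?_
    have h1 := hcomm g hg w hw
    obtain ⟨m, hm⟩ := exists_pow_of_mem_zpowers h h1
    have h2 : g * w * g⁻¹ * w⁻¹ = 1 := by
      by_contra hne
      rw [hm] at hne
      have hmr : ¬ r ∣ m := fun ⟨q, hq⟩ => hne (by rw [hq, pow_mul, hz.2.2, one_pow])
      obtain ⟨e, he⟩ := exists_pow_eq_self_of_coprime (x := z) (n := m)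
        (by rw [hzo]; exact (hr.out.coprime_iff_not_dvd.2 hmr).symm)
      exact hzB (he ▸ pow_mem (hm ▸ mul_mem (mul_mem (mul_mem hg hw) (inv_mem hg)) (inv_mem hw)) e)
    calc g * w = g * w * g⁻¹ * w⁻¹ * (w * g) := by group
      _ = w * g := by rw [h2, one_mul]
  -- inverted elements commute, fixed elements commute
  have hzi : ∀ w ∈ Subgroup.zpowers z, a * w * a⁻¹ = w⁻¹ := fun w hw => by
    obtain ⟨m, rfl⟩ := exists_pow_of_mem_zpowers h hw
    rw [← conj_pow, hZ₁i z hz, inv_pow]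
  have hone : ∀ w ∈ Subgroup.zpowers z, a * w * a⁻¹ = w → w = 1 := fun w hw e =>
    eq_one_of_both h ((Subgroup.zpowers_le.2 (hB.le hzB)) hw) (mul_inv_eq_iff_eq_mul.1 e) (hzi w hw)
  have hJc : ∀ g ∈ B, ∀ w ∈ B, a * g * a⁻¹ = g⁻¹ → a * w * a⁻¹ = w⁻¹ → g * w = w * g := by
    intro g hg w hw hgi hwi
    have h1 := hone _ (hcomm g hg w hw) (by
      have hce := hprop B' hB'inv hB'B hB'ne _ (Subgroup.commutator_mem_commutator hg hw)
        (w * g) (mul_mem (hBQ hw) (hBQ hg))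
      rw [commutatorElement_def] at hce
      calc a * (g * w * g⁻¹ * w⁻¹) * a⁻¹
          = a * g * a⁻¹ * (a * w * a⁻¹) * (a * g * a⁻¹)⁻¹ * (a * w * a⁻¹)⁻¹ := by group
        _ = (w * g)⁻¹ * (g * w * g⁻¹ * w⁻¹ * (w * g)) := by rw [hgi, hwi]; group
        _ = g * w * g⁻¹ * w⁻¹ := by rw [hce]; group)
    calc g * w = g * w * g⁻¹ * w⁻¹ * (w * g) := by group
      _ = w * g := by rw [h1, one_mul]
  have hFc : ∀ g ∈ B, ∀ w ∈ B, a * g = g * a → a * w = w * a → g * w = w * g := by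
    intro g hg w hw hga hwa
    have h1 := hone _ (hcomm g hg w hw) (by
      calc a * (g * w * g⁻¹ * w⁻¹) * a⁻¹
          = a * g * a⁻¹ * (a * w * a⁻¹) * (a * g * a⁻¹)⁻¹ * (a * w * a⁻¹)⁻¹ := by group
        _ = _ := by rw [mul_conj_fixed hga, mul_conj_fixed hwa])
    calc g * w = g * w * g⁻¹ * w⁻¹ * (w * g) := by group
      _ = w * g := by rw [h1, one_mul]
  have hsplit : ∀ g ∈ B, ∃ c ∈ B, a * c = c * a ∧ ∃ l ∈ B, a * l * a⁻¹ = l⁻¹ ∧ g = c * l :=
    fun g hg => exists_fixed_mul_inverted hBodd (ctx h).a_sq hB.conj_a hg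
  have hzcomm : ∀ g ∈ B, Commute g z := fun g hg => hzc g (hB.le hg) z hz
  have hT1 : ∀ g ∈ B, a * g * a⁻¹ = g⁻¹ → g * x = x * g → g ∈ Subgroup.zpowers z := fun g hg hgi hgx =>
    mem_zpowers_of_inverted h hMK hr.out hrd hxD (hn ▸ hr.out) (hB.le hg) (hB.le hzB) hgx
      (hzcomm x hxB).eq.symm hgi (hZ₁i z hz) (hexp g hg) hz.2.2 hz1 (hzcomm g hg).eq
  -- `y`
  obtain ⟨y, hy, hyi, hyz⟩ : ∃ y ∈ B, a * y * a⁻¹ = y⁻¹ ∧ y ∉ Subgroup.zpowers z := by
    by_contra hno'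
    push Not at hno'
    refine hnab fun g hg w hw => ?_
    obtain ⟨c, hc, hca, l, hl, hli, rfl⟩ := hsplit g hg
    obtain ⟨c', hc', hc'a, l', hl', hl'i, rfl⟩ := hsplit w hw
    obtain ⟨i, rfl⟩ := exists_pow_of_mem_zpowers h (hno' l hl hli)
    obtain ⟨i', rfl⟩ := exists_pow_of_mem_zpowers h (hno' l' hl' hl'i)
    exact (((show Commute c c' from hFc c hc c' hc' hca hc'a).mul_right ((hzcomm c hc).pow_right i')).mul_left
      (((hzcomm c' hc').pow_right i).symm.mul_right (Commute.pow_pow (Commute.refl z) i i'))).eq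
  set c₀ := y⁻¹ * (x * y * x⁻¹) with hc₀
  have hshift : x * y * x⁻¹ = y * c₀ := by rw [hc₀, mul_inv_cancel_left]
  have hc₀z : c₀ ∈ Subgroup.zpowers z := by
    have h1 := hcomm y⁻¹ (inv_mem hy) x hxB
    rw [inv_inv] at h1
    have h2 := inv_mem h1
    rw [show (y⁻¹ * x * y * x⁻¹)⁻¹ = x * y⁻¹ * x⁻¹ * y by group] at h2
    have h3 := hcomm x hxB y⁻¹ (inv_mem hy)
    rw [hc₀, show y⁻¹ * (x * y * x⁻¹) = y⁻¹ * x * y * x⁻¹ by group]
    exact h1
  have hc₀1 : c₀ ≠ 1 := fun e => hyz (hT1 y hy hyi (by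
    rw [e, mul_one] at hshift; exact (mul_inv_eq_iff_eq_mul.1 hshift).symm))
  have hc₀gen : ∀ w ∈ Subgroup.zpowers z, ∃ k : ℕ, w = c₀ ^ k := by
    intro w hw
    refine exists_pow_of_mem_zpowers h ?_
    have heq : Subgroup.zpowers c₀ = Subgroup.zpowers z :=
      Subgroup.eq_of_le_of_card_ge (Subgroup.zpowers_le.2 hc₀z) (by
        rw [Nat.card_zpowers, Nat.card_zpowers, hzo]
        exact (orderOf_eq_prime (hexp c₀ ((Subgroup.zpowers_le.2 hzB) hc₀z)) hc₀1).ge)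
    rw [heq]; exact hw
  have hcx : Commute x c₀ := by
    obtain ⟨m, hm⟩ := exists_pow_of_mem_zpowers h hc₀z
    rw [hm]; exact (hzcomm x hxB).pow_right m
  have hcy : Commute y c₀ := by
    obtain ⟨m, hm⟩ := exists_pow_of_mem_zpowers h hc₀z
    rw [hm]; exact (hzcomm y hy).pow_right m
  have hconjx : ∀ i j : ℕ, x ^ i * y ^ j * (x ^ i)⁻¹ = y ^ j * c₀ ^ (i * j) :=
    conj_pow_shift hshift hcx hcy
  have hinv : ∀ g ∈ B, a * g * a⁻¹ = g⁻¹ → ∃ j l : ℕ, g = y ^ j * z ^ l := by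
    intro g hg hgi
    have hw : g⁻¹ * (x * g * x⁻¹) ∈ Subgroup.zpowers z := by
      have h1 := hcomm g⁻¹ (inv_mem hg) x hxB
      rw [inv_inv] at h1
      rw [show g⁻¹ * (x * g * x⁻¹) = g⁻¹ * x * g * x⁻¹ by group]
      exact h1
    obtain ⟨k, hk⟩ := hc₀gen _ hw
    have hgy : g * y = y * g := hJc g hg y hy hgi hyi
    set g' := g * (y ^ k)⁻¹ with hg'
    have hfix : x * g' * x⁻¹ = g' := by
      have h1 := hconjx 1 k
      rw [pow_one, one_mul] at h1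
      calc x * g' * x⁻¹ = g * (g⁻¹ * (x * g * x⁻¹)) * (x * y ^ k * x⁻¹)⁻¹ := by rw [hg']; group
        _ = g' := by rw [hk, h1, _root_.mul_inv_rev, hg']; group
    have hg'z : g' ∈ Subgroup.zpowers z := by
      refine hT1 g' (mul_mem hg (inv_mem (pow_mem hy k))) ?_ (mul_inv_eq_iff_eq_mul.1 hfix).symm
      rw [hg', show a * (g * (y ^ k)⁻¹) * a⁻¹ = a * g * a⁻¹ * (a * y ^ k * a⁻¹)⁻¹ by group, ← conj_pow,
        hgi, hyi, inv_pow, ((show Commute g y from hgy).pow_right k).inv_right.mul_inv]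
    obtain ⟨l, hl⟩ := exists_pow_of_mem_zpowers h hg'z
    refine ⟨k, l, ?_⟩
    rw [← hl, hg', ((show Commute g y from hgy).pow_right k).inv_right.eq, mul_inv_cancel_left]
  have hfixB : ∀ d ∈ B, a * d = d * a → ∃ i : ℕ, d = x ^ i := by
    intro d hd hda
    have h1 := hcomm y⁻¹ (inv_mem hy) d hd
    rw [inv_inv] at h1
    obtain ⟨k, hk⟩ := hc₀gen _ h1
    refine ⟨k, ?_⟩
    set d' := d * (x ^ k)⁻¹ with hd'
    have hd'B : d' ∈ B := mul_mem hd (inv_mem (pow_mem hxB k))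
    have hd'a : a * d' = d' * a :=
      ((show Commute a d from hda).mul_right ((show Commute a x from hxa).pow_right k).inv_right).eq
    have hd'y : d' * y = y * d' := by
      have h2 := hconjx k 1
      rw [pow_one, mul_one] at h2
      have hck : c₀ ^ k ∈ Subgroup.zpowers z := pow_mem hc₀z k
      have hxc : (x ^ k)⁻¹ * y * x ^ k = y * (c₀ ^ k)⁻¹ := by
        calc (x ^ k)⁻¹ * y * x ^ k = (x ^ k)⁻¹ * (x ^ k * y * (x ^ k)⁻¹ * (c₀ ^ k)⁻¹) * x ^ k := by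
              rw [h2, mul_inv_cancel_right]
          _ = y * ((x ^ k)⁻¹ * (c₀ ^ k)⁻¹ * x ^ k) := by group
          _ = y * (c₀ ^ k)⁻¹ := by
              rw [((hcx.pow_pow k k).inv_inv).eq, inv_mul_cancel_right]
      have hdy : d * y * d⁻¹ = y * c₀ ^ k := by rw [← hk]; group
      have hdc : d * (c₀ ^ k)⁻¹ * d⁻¹ = (c₀ ^ k)⁻¹ := by
        obtain ⟨m, hm⟩ := exists_pow_of_mem_zpowers h hck
        rw [hm, mul_conj_fixed ((hzcomm d hd).pow_right m).inv_right.eq]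
      refine mul_inv_eq_iff_eq_mul.1 ?_
      calc d' * y * d'⁻¹ = d * ((x ^ k)⁻¹ * y * x ^ k) * d⁻¹ := by rw [hd']; group
        _ = d * y * d⁻¹ * (d * (c₀ ^ k)⁻¹ * d⁻¹) := by rw [hxc]; group
        _ = y := by rw [hdy, hdc, mul_inv_cancel_right]
    have hd'1 : d' = 1 := by
      let W : Subgroup G :=
        { carrier := {g | g ∈ B ∧ ∀ w ∈ B, g * w = w * g}
          one_mem' := ⟨one_mem _, fun w _ => by rw [one_mul, mul_one]⟩
          mul_mem' := fun ⟨hg, hgc⟩ ⟨hw, hwc⟩ =>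
            ⟨mul_mem hg hw, fun v hv => ((show Commute _ v from hgc v hv).mul_left (hwc v hv)).eq⟩
          inv_mem' := fun ⟨hg, hgc⟩ => ⟨inv_mem hg, fun v hv => (show Commute _ v from hgc v hv).inv_left.eq⟩ }
      have hWc : ∀ c : G, (∀ g ∈ B, c * g * c⁻¹ ∈ B) → ∀ g ∈ W, c * g * c⁻¹ ∈ W := by
        intro c hc g hg
        refine ⟨hc g hg.1, fun w hw => ?_⟩
        have hn : c ∈ Subgroup.normalizer (B : Set G) := Subgroup.mem_normalizer_fintype hc
        have hv := hg.2 _ ((Subgroup.mem_normalizer_iff''.1 hn w).1 hw)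
        calc c * g * c⁻¹ * w = c * (g * (c⁻¹ * w * c)) * c⁻¹ := by group
          _ = w * (c * g * c⁻¹) := by rw [hv]; group
      have hWne : W ≠ B := fun e => hnab fun g hg w hw => ((e.symm ▸ hg : g ∈ W)).2 w hw
      have hd'W : d' ∈ W := by
        refine ⟨hd'B, fun w hw => ?_⟩
        obtain ⟨c, hc, hca, l, hl, hli, rfl⟩ := hsplit w hw
        obtain ⟨j, m, rfl⟩ := hinv l hl hli
        exact ((show Commute d' c from hFc d' hd'B c hc hd'a hca).mul_right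
          (((show Commute d' y from hd'y).pow_right j).mul_right ((hzcomm d' hd'B).pow_right m))).eq
      exact hone d' (hsmall W ⟨fun w hw => hB.le hw.1, fun o ho => hWc o fun g hg => hB.conj o ho g hg,
        fun g hg => hWc a hB.conj_a g hg⟩ (fun w hw => hw.1) hWne hd'W) (mul_conj_fixed hd'a)
    calc d = d' * x ^ k := by rw [hd', inv_mul_cancel_right]
      _ = x ^ k := by rw [hd'1, one_mul]
  refine ⟨B, x, y, z,
    { inv := hB, exponent := hexp, x_mem := hxB, y_mem := hy, z_mem := hzB, x_core := hxD, x_order := hn,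
      z_order := hzo, y_inv := hyi, z_inv := hZ₁i z hz, z_central := fun o ho => hzc o ho z hz,
      comm := hcomm, yz := (hzcomm y hy).eq, shift := ⟨c₀, hc₀z, hc₀1, hshift⟩,
      dec := fun g hg => ?_, inverted := hinv }⟩
  obtain ⟨c, hc, hca, l, hl, hli, rfl⟩ := hsplit g hg
  obtain ⟨i, rfl⟩ := hfixB c hc hca
  obtain ⟨j, m, rfl⟩ := hinv l hl hli
  exact ⟨i, j, m, rfl⟩

end

end Cfsg.Agent.Lib.GorensteinWalter.Four.Plane
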