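import Cfsg.Agent.Lib.GorensteinWalter.InterfaceH
import Cfsg.Agent.Lib.GorensteinWalter.Four.Setting
import Cfsg.Agent.Lib.GorensteinWalter.Four.Plane.Abstract
import Cfsg.Agent.Lib.GorensteinWalter.FusedCentralizer
import Cfsg.Agent.Lib.OddOrder.Fitting
import Cfsg.Agent.Lib.SolvCent.Setup

/-!
# Gorenstein–Walter, section 3 for `|S| = 4`: the setting

A nontrivial element of `D = O(C(V))` is not central in `O = O(C(t))` (its centraliser would be strongly
embedded), so some `O_r(O)` meets `D`; and the `G`-conjugates of `⟨x⟩` in `O` are `O`-conjugates.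
-/

set_option autoImplicit false
set_option linter.unusedSectionVars false
set_option linter.style.haveILetI false

namespace Cfsg.Agent.Lib.GorensteinWalter.Four.Plane

open Cfsg.Agent.Lib.Fusion.Dihedral

universe u

variable {G : Type u} [Group G] [Finite G] {V : Subgroup G} {t a : G}

/-- A subgroup of `O(C(t))` normalised by it and by `a`. -/
structure InvSub (t a : G) (K : Subgroup G) : Prop where
  le : K ≤ coreC t
  conj : ∀ o ∈ coreC t, ∀ k ∈ K, o * k * o⁻¹ ∈ K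
  conj_a : ∀ k ∈ K, a * k * a⁻¹ ∈ K

/-- `IsConj` in a centraliser. -/
theorem mul_conj_fixed {v x : G} (h : v * x = x * v) : v * x * v⁻¹ = x := by
  rw [h, mul_inv_cancel_right]

variable (h : FourSetting V t a)
include h

theorem ctx : Ctx t a V where
  hyp := h.hyp
  four := h.four
  small Q hQ := by
    obtain ⟨S, hS⟩ := hQ.exists_le_sylow
    exact (Subgroup.card_le_of_le hS).trans (h.sylow S).le
  t_mem := h.t_mem
  a_mem := h.a_mem
  t_ne_one := h.t_ne
  a_ne_one := h.a_ne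
  a_ne := h.ne

theorem mem_core_iff {x : G} : x ∈ coreV V ↔ x ∈ coreC t ∧ a * x = x * a := by
  rw [← (ctx h).coreV_eq_inf, Subgroup.mem_inf, Subgroup.mem_centralizer_singleton_iff]
  exact and_congr_right fun _ => eq_comm

theorem core_le : coreV V ≤ coreC t := fun _ hx => ((mem_core_iff h).1 hx).1

theorem core_comm_four {x v : G} (hx : x ∈ coreV V) (hv : v ∈ V) : v * x = x * v :=
  Subgroup.mem_centralizer_iff.1 (coreV_le V hx) v hv

theorem conj_a_mem {o : G} (ho : o ∈ coreC t) : a * o * a⁻¹ ∈ coreC t :=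
  (ctx h).conj_mem ((ctx h).four_le h.a_mem) ho

theorem core_odd {y : G} (hy : y ∈ coreC t) : Odd (orderOf y) := orderOf_odd_of_mem (coreC_odd t) hy

theorem le_of_inverted {K : Subgroup G}
    (hK : ∀ y ∈ coreC t, a * y * a⁻¹ = y⁻¹ → y ∈ K) : coreC t ≤ K :=
  h.generated.trans ((Subgroup.closure_le K).2 fun y hy => hK y hy.1 hy.2)

/-- An element of `O` inverted and fixed by `a` is trivial. -/
theorem eq_one_of_both {x : G} (hx : x ∈ coreC t) (hfix : a * x = x * a) (hi : a * x * a⁻¹ = x⁻¹) :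
    x = 1 := by
  rw [mul_conj_fixed hfix] at hi
  exact eq_one_of_eq_inv (core_odd h hx) hi

/-- A normal subgroup fixed by `a` is central. -/
theorem commute_of_fixed {K : Subgroup G} (hK : InvSub t a K) (hfix : ∀ k ∈ K, a * k = k * a) :
    ∀ o ∈ coreC t, ∀ k ∈ K, o * k = k * o := by
  intro o ho k hk
  have hle : coreC t ≤ Subgroup.centralizer ({k} : Set G) := le_of_inverted h fun y hy hyi => by
    rw [Subgroup.mem_centralizer_singleton_iff]
    refine (commute_of_sq (core_odd h hy) ?_).eq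
    have h1 := mul_conj_fixed (hfix _ (hK.conj y hy k hk))
    have h2 : a * (y * k * y⁻¹) * a⁻¹ = y⁻¹ * k * y := by
      calc a * (y * k * y⁻¹) * a⁻¹ = a * y * a⁻¹ * (a * k * a⁻¹) * (a * y * a⁻¹)⁻¹ := by group
        _ = y⁻¹ * k * y := by rw [hyi, mul_conj_fixed (hfix k hk), inv_inv]
    show y * y * k = k * (y * y)
    calc y * y * k = y * (y * k * y⁻¹) * y := by group
      _ = y * (y⁻¹ * k * y) * y := by rw [← h2, h1]
      _ = k * (y * y) := by group
  exact Subgroup.mem_centralizer_singleton_iff.1 (hle ho)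

/-- A normal subgroup inverted by `a` is central. -/
theorem commute_of_inverted {K : Subgroup G} (hK : InvSub t a K)
    (hinv : ∀ k ∈ K, a * k * a⁻¹ = k⁻¹) : ∀ o ∈ coreC t, ∀ k ∈ K, o * k = k * o := by
  intro o ho k hk
  have hle : coreC t ≤ Subgroup.centralizer ({k} : Set G) := le_of_inverted h fun y hy hyi => by
    rw [Subgroup.mem_centralizer_singleton_iff]
    refine (commute_of_sq (core_odd h hy) ?_).eq
    have h1 := hinv _ (hK.conj y hy k hk)
    have h2 : a * (y * k * y⁻¹) * a⁻¹ = y⁻¹ * k⁻¹ * y := by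
      calc a * (y * k * y⁻¹) * a⁻¹ = a * y * a⁻¹ * (a * k * a⁻¹) * (a * y * a⁻¹)⁻¹ := by group
        _ = y⁻¹ * k⁻¹ * y := by rw [hyi, hinv k hk, inv_inv]
    have h3 : y * k⁻¹ * y⁻¹ = y⁻¹ * k⁻¹ * y := by
      rw [← h2, h1]; group
    have h4 : Commute (y * y) k⁻¹ := by
      show y * y * k⁻¹ = k⁻¹ * (y * y)
      calc y * y * k⁻¹ = y * (y * k⁻¹ * y⁻¹) * y := by group
        _ = y * (y⁻¹ * k⁻¹ * y) * y := by rw [h3]
        _ = k⁻¹ * (y * y) := by group
    simpa using h4.inv_right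
  exact Subgroup.mem_centralizer_singleton_iff.1 (hle ho)

theorem centralizer_ne_top {x : G} (hx : x ∈ coreV V) (hx1 : x ≠ 1) :
    Subgroup.centralizer ({x} : Set G) ≠ ⊤ := by
  intro e
  have hodd : Odd (Nat.card (Subgroup.zpowers x)) := by
    rw [Nat.card_zpowers]; exact orderOf_odd_of_mem (coreV_odd V) hx
  refine h.hyp.normalizer_ne_top (fun e' => hx1 ?_) (h.hyp.ne_top_of_odd hodd) ?_
  · exact Subgroup.zpowers_eq_bot.1 e'
  · rw [eq_top_iff, ← e, ← Subgroup.centralizer_closure, ← Subgroup.zpowers_eq_closure]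
    exact Subgroup.centralizer_le_normalizer _

/-- An involution centralising `x ∈ D` of prime order is conjugate to `t` in `C(x)`. -/
theorem exists_conj_t {x : G} (hx : x ∈ coreV V) (hp : (orderOf x).Prime) {j : G} (hj : orderOf j = 2)
    (hjx : j * x = x * j) : ∃ m : G, m * x = x * m ∧ j = m * t * m⁻¹ := by
  haveI : Fact (Nat.Prime 2) := ⟨Nat.prime_two⟩
  have hF := h.fused x hx hp
  set M := Subgroup.centralizer ({x} : Set G) with hM
  have hjM : j ∈ M := Subgroup.mem_centralizer_singleton_iff.2 hjx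
  obtain ⟨T, hT⟩ := (hF.1.isPGroup.comap_subtype (K := M)).exists_le_sylow
  have hVT : V = (T : Subgroup M).map M.subtype := Subgroup.eq_of_le_of_card_ge
    (fun v hv => ⟨⟨v, hF.2.1 hv⟩, hT hv, rfl⟩)
    (((ctx h).small _ (T.2.map _)).trans h.four.1.ge)
  have hp2 : IsPGroup 2 ↥(Subgroup.zpowers (⟨j, hjM⟩ : M)) := SolvCent.isPGroup_zpowers_invol
    (Subtype.ext (by show j ^ 2 = 1; rw [← hj, pow_orderOf_eq_one]))
  obtain ⟨T', hT'⟩ := hp2.exists_le_sylow
  obtain ⟨k, hk⟩ := MulAction.exists_smul_eq M T' T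
  have hkj : (k : G) * j * (k : G)⁻¹ ∈ V := by
    rw [hVT]
    refine ⟨k * ⟨j, hjM⟩ * k⁻¹, ?_, rfl⟩
    rw [← hk]
    exact Subgroup.smul_mem_pointwise_smul _ (MulAut.conj k) (T' : Subgroup M)
      (hT' (Subgroup.mem_zpowers _))
  have hne : (k : G) * j * (k : G)⁻¹ ≠ 1 := fun e => by
    rw [conj_eq_one_iff.1 e, orderOf_one] at hj; omega
  obtain ⟨g, hgM, -, hg⟩ := hF.2.2 t h.t_mem h.t_ne _ hkj hne
  refine ⟨(k : G)⁻¹ * g, Subgroup.mem_centralizer_singleton_iff.1 (mul_mem (inv_mem k.2) hgM), ?_⟩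
  calc j = (k : G)⁻¹ * ((k : G) * j * (k : G)⁻¹) * k := by group
    _ = (k : G)⁻¹ * g * t * ((k : G)⁻¹ * g)⁻¹ := by rw [← hg]; group

/-- No nontrivial element of `D` is central in `O`. -/
theorem not_central {x : G} (hx : x ∈ coreV V) (hx1 : x ≠ 1) : ¬ ∀ o ∈ coreC t, o * x = x * o := by
  intro hcen
  obtain ⟨p, hp, hpd⟩ := Nat.exists_prime_and_dvd (fun e => hx1 (orderOf_eq_one_iff.1 e))
  set y := x ^ (orderOf x / p) with hy
  have hyo : orderOf y = p := orderOf_pow_orderOf_div (orderOf_pos x).ne' hpd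
  have hyV : y ∈ coreV V := pow_mem hx _
  have hy1 : y ≠ 1 := fun e => by rw [e, orderOf_one] at hyo; exact hp.ne_one hyo.symm
  have hycen : ∀ o ∈ coreC t, o * y = y * o := fun o ho => (Commute.pow_right (hcen o ho) _).eq
  set M := Subgroup.centralizer ({y} : Set G) with hM
  have hCt : ∀ c : G, c * t = t * c → c ∈ M := by
    intro c hc
    obtain ⟨o, ho, v, hv, rfl⟩ := (ctx h).exists_mul (Subgroup.mem_centralizer_singleton_iff.2 hc)
    exact mul_mem (Subgroup.mem_centralizer_singleton_iff.2 (hycen o ho))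
      (Subgroup.mem_centralizer_singleton_iff.2 (core_comm_four h hyV hv))
  refine h.noStronglyEmbedded M ⟨centralizer_ne_top h hyV hy1, ?_, fun g hg => ?_⟩
  · rw [even_iff_two_dvd, ← (ctx h).t_two]
    exact Subgroup.orderOf_dvd_natCard M (hCt t rfl)
  by_contra hev
  rw [Nat.not_odd_iff_even, even_iff_two_dvd] at hev
  obtain ⟨j, hj⟩ := exists_prime_orderOf_dvd_card' (G := ↥(M ⊓ M.map (MulAut.conj g).toMonoidHom)) 2 hev
  obtain ⟨hjM, hjg⟩ := Subgroup.mem_inf.1 j.2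
  obtain ⟨k, hk, hkj⟩ := hjg
  have hj2 : orderOf (j : G) = 2 := by rw [Subgroup.orderOf_coe, hj]
  have hk2 : orderOf k = 2 := by
    rw [← hj2, ← hkj]; exact (MulEquiv.orderOf_eq (MulAut.conj g) k).symm
  obtain ⟨m, hm, hmj⟩ := exists_conj_t h hyV (hyo ▸ hp) hj2 (Subgroup.mem_centralizer_singleton_iff.1 hjM)
  obtain ⟨n, hn, hnk⟩ := exists_conj_t h hyV (hyo ▸ hp) hk2 (Subgroup.mem_centralizer_singleton_iff.1 hk)
  refine hg ?_
  have h1 : g * n * t * (g * n)⁻¹ = m * t * m⁻¹ := by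
    rw [← hmj, ← hkj, hnk]; simp [mul_assoc]
  have h2 : m⁻¹ * g * n * t = t * (m⁻¹ * g * n) := by
    calc m⁻¹ * g * n * t = m⁻¹ * (g * n * t * (g * n)⁻¹) * (g * n) := by group
      _ = t * (m⁻¹ * g * n) := by rw [h1]; group
  have h3 := hCt _ h2
  rw [show g = m * (m⁻¹ * g * n) * n⁻¹ by group]
  exact mul_mem (mul_mem (Subgroup.mem_centralizer_singleton_iff.2 hm) h3)
    (inv_mem (Subgroup.mem_centralizer_singleton_iff.2 hn))

/-- The conjugates of `⟨x⟩` in `O` are conjugate under `O`. -/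
theorem exists_conj_of_line {x : G} (hx : x ∈ coreV V) (hp : (orderOf x).Prime) {X : Subgroup G}
    (hX : X ∈ lines t x) : ∃ o ∈ coreC t, X = Subgroup.zpowers (o * x * o⁻¹) := by
  obtain ⟨hXO, g, hXg⟩ := hX
  have hmap : ∀ c : G, (Subgroup.zpowers x).map (MulAut.conj c).toMonoidHom =
      Subgroup.zpowers (c * x * c⁻¹) := fun c => by
    rw [MonoidHom.map_zpowers]; rfl
  rw [hmap] at hXg
  have hgx : g * x * g⁻¹ ∈ coreC t := hXO (hXg ▸ Subgroup.mem_zpowers _)
  have hgt := (ctx h).core_comm hgx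
  have hj : orderOf (g⁻¹ * t * g) = 2 := by
    rw [← (ctx h).t_two]
    have h1 := MulEquiv.orderOf_eq (MulAut.conj g⁻¹) t
    rwa [MulAut.conj_apply, inv_inv] at h1
  have hjx : g⁻¹ * t * g * x = x * (g⁻¹ * t * g) := by
    calc g⁻¹ * t * g * x = g⁻¹ * (t * (g * x * g⁻¹)) * g := by group
      _ = x * (g⁻¹ * t * g) := by rw [← hgt]; group
  obtain ⟨m, hm, hmt⟩ := exists_conj_t h hx hp hj hjx
  have hc : g * m ∈ Subgroup.centralizer ({t} : Set G) := by
    rw [Subgroup.mem_centralizer_singleton_iff]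
    calc g * m * t = g * (m * t * m⁻¹) * m := by group
      _ = t * (g * m) := by rw [← hmt]; group
  obtain ⟨o, ho, v, hv, hov⟩ := (ctx h).exists_mul hc
  refine ⟨o, ho, ?_⟩
  rw [hXg]
  congr 1
  calc g * x * g⁻¹ = g * (m * x * m⁻¹) * g⁻¹ := by rw [mul_conj_fixed hm]
    _ = g * m * x * (g * m)⁻¹ := by group
    _ = o * (v * x * v⁻¹) * o⁻¹ := by rw [hov]; group
    _ = o * x * o⁻¹ := by rw [mul_conj_fixed (core_comm_four h hx hv)]

/-- A conjugate of an element of `D` inverted by `a` is trivial. -/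
theorem eq_one_of_conj_inverted {x o : G} (hx : x ∈ coreV V) (ho : o ∈ coreC t)
    (hi : a * (o * x * o⁻¹) * a⁻¹ = (o * x * o⁻¹)⁻¹) : x = 1 := by
  have hai : a⁻¹ = a := (ctx h).a_inv
  have hg : o * (a * o⁻¹ * a⁻¹) ∈ coreC t := mul_mem ho (conj_a_mem h (inv_mem ho))
  have hx' : o * x * o⁻¹ ∈ coreC t := mul_mem (mul_mem ho (core_le h hx)) (inv_mem ho)
  refine conj_eq_one_iff.1 (eq_one_of_conj_eq_inv (g := o * (a * o⁻¹ * a⁻¹)) (x := o * x * o⁻¹)
    (core_odd h hg) (core_odd h hx') ?_)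
  calc o * (a * o⁻¹ * a⁻¹) * (o * x * o⁻¹) * (o * (a * o⁻¹ * a⁻¹))⁻¹
      = o * a * o⁻¹ * (a⁻¹ * (o * x * o⁻¹) * a) * (o * a⁻¹ * o⁻¹) := by group
    _ = o * a * o⁻¹ * (o * x * o⁻¹)⁻¹ * (o * a⁻¹ * o⁻¹) := by rw [← hi]; simp only [hai]
    _ = o * (a * x⁻¹ * a⁻¹) * o⁻¹ := by group
    _ = (o * x * o⁻¹)⁻¹ := by
        rw [← conj_inv, mul_conj_fixed ((mem_core_iff h).1 hx).2]; group

/-- Some `O_r(O)` meets `D`. -/
theorem exists_prime_core : ∃ r : ℕ, r.Prime ∧ r ∣ Nat.card (coreV V) ∧ r ≠ 2 ∧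
    ∃ Q : Subgroup G, InvSub t a Q ∧ IsPGroup r Q ∧ ∃ x ∈ Q, x ≠ 1 ∧ a * x = x * a := by
  have hS := isSolvable_coreC t
  have hn : coreC t ≤ Subgroup.normalizer (coreC t : Set G) := Subgroup.le_normalizer
  have key : ∀ (r : ℕ), InvSub t a (Cfsg.pCoreOf r (coreC t)) := fun r => by
    have hN := CharP.normalizer_le_normalizer_map_char (H := coreC t) (Cfsg.pCore r ↥(coreC t))
    refine ⟨CharP.pCoreOf_le r _, fun o ho k hk => ?_, fun k hk => ?_⟩
    · exact (Subgroup.mem_normalizer_iff.1 (hN (hn ho)) k).1 hk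
    · exact (Subgroup.mem_normalizer_iff.1
        (hN (centralizer_le_normalizer_coreC t ((ctx h).four_le h.a_mem))) k).1 hk
  by_contra hno
  have hinv : ∀ (r : ℕ) [Fact r.Prime], ∀ o ∈ coreC t, ∀ k ∈ Cfsg.pCoreOf r (coreC t), o * k = k * o := by
    intro r hr
    refine commute_of_inverted h (key r) fun k hk => inverts_of_fixed_bot
      (Odd.of_dvd_nat (coreC_odd t) (Subgroup.card_dvd_of_le (key r).le)) (ctx h).a_sq (key r).conj_a
      (fun y hy hya => ?_) k hk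
    by_contra hy1
    have hyD : y ∈ coreV V := (mem_core_iff h).2 ⟨(key r).le hy, hya⟩
    obtain ⟨j, hj⟩ := IsPGroup.iff_orderOf.1 (CharP.isPGroup_pCoreOf r (coreC t)) ⟨y, hy⟩
    rw [Subgroup.orderOf_mk] at hj
    have hj0 : j ≠ 0 := fun e => hy1 (orderOf_eq_one_iff.1 (by rw [hj, e, pow_zero]))
    have hrd : r ∣ Nat.card (coreV V) :=
      ((dvd_pow_self r hj0).trans hj.symm.dvd).trans (Subgroup.orderOf_dvd_natCard _ hyD)
    refine hno ⟨r, hr.out, hrd, fun e => ?_, _, key r, CharP.isPGroup_pCoreOf r _, y, hy, hy1, hya⟩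
    exact Nat.not_even_iff_odd.2 (coreV_odd V) (even_iff_two_dvd.2 (e ▸ hrd))
  haveI := hS
  have hF : ∀ o ∈ coreC t, o ∈ Cfsg.fittingOf (coreC t) := fun o ho =>
    OddOrder.Fitting.inf_centralizer_fittingOf_le (coreC t) ⟨ho, OddOrder.Fitting.mem_centralizer_fittingOf
      fun r _ _ u hu => hinv r o ho u hu⟩
  obtain ⟨x, hx, y, hy, hne⟩ := h.nonabelian
  exact hne (Subgroup.mem_centralizer_iff.1 (OddOrder.Fitting.mem_centralizer_fittingOf
    (H := coreC t) fun r _ _ u hu => hinv r y hy u hu) x (hF x hx))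

end Cfsg.Agent.Lib.GorensteinWalter.Four.Plane
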