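import Cfsg.Agent.Lib.GorensteinWalter.Four.Plane.Coords
import Cfsg.Agent.Lib.Coprime.Glauberman

/-!
# Gorenstein–Walter, section 3 for `|S| = 4`: the extraspecial subgroup is a Sylow subgroup of `O`
-/

set_option autoImplicit false
set_option linter.unusedSectionVars false
set_option linter.style.haveILetI false

namespace Cfsg.Agent.Lib.GorensteinWalter.Four.Plane

open Cfsg.Agent.Lib.Fusion.Dihedral
open scoped Pointwise

universe u

variable {G : Type u} [Group G] [Finite G] {V : Subgroup G} {t a : G}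
variable {r : ℕ} [hr : Fact r.Prime] {B : Subgroup G} {x y z : G}
variable (h : FourSetting V t a) (E : ExData V t a r B x y z)
include h E

/-- An inverted `r`-element commuting with `x` lies in `⟨z⟩`. -/
theorem inverted_centralizing_mem (hMK : PropModelKlein.{u}) (hLT : PropLineTorus.{u})
    (hrd : r ∣ Nat.card (coreV V)) {v : G} (hv : v ∈ coreC t) (hvx : v * x = x * v)
    (hvi : a * v * a⁻¹ = v⁻¹) : ∀ n : ℕ, v ^ r ^ n = 1 → v ∈ Subgroup.zpowers z := by
  have hp : (orderOf x).Prime := E.x_order ▸ hr.out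
  intro n
  induction n with
  | zero =>
    intro e
    rw [pow_zero, pow_one] at e
    exact e ▸ one_mem _
  | succ n ih =>
    intro e
    by_cases hn : n = 0
    · subst hn
      exact mem_zpowers_of_inverted h hMK hr.out hrd E.x_core hp hv (E.inv.le E.z_mem) hvx
        (ex_z_comm h E E.x_mem).eq.symm hvi E.z_inv (by simpa using e) (E.exponent z E.z_mem) (ex_z_ne h E)
        (E.z_central v hv)
    refine ih ?_
    obtain ⟨hl, hk⟩ := line_of_exData h E
    set w := v ^ r ^ (n - 1) with hw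
    have hw2 : w ^ r ^ 2 = 1 := by
      rw [hw, ← pow_mul, ← pow_add, show n - 1 + 2 = n + 1 by omega, e]
    have hw1 := hLT G V t a h r x hr.out hl hk w (pow_mem hv _)
      ((show Commute v x from hvx).pow_left _).eq (by rw [hw, ← conj_pow, hvi, inv_pow]) hw2
    rwa [hw, ← pow_mul, ← pow_succ, show n - 1 + 1 = n by omega] at hw1

/-- A Sylow `r`-subgroup of `O` invariant under `V` is `B`. -/
theorem sylow_eq (hMK : PropModelKlein.{u}) (hLT : PropLineTorus.{u}) (hrd : r ∣ Nat.card (coreV V))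
    {R : Subgroup G} (hRO : R ≤ coreC t) (hRp : IsPGroup r R) (hBR : B ≤ R)
    (hRa : ∀ g ∈ R, a * g * a⁻¹ ∈ R) : R = B := by
  classical
  obtain ⟨c, hc, hco, hxc, hyc, hgen, hshift⟩ := exists_shift h E
  have hxz : Commute x z := ex_z_comm h E E.x_mem
  -- `P s` is the plane `⟨x y^s, z⟩`
  let P : ℕ → Subgroup G := fun s => Subgroup.zpowers (x * y ^ s) ⊔ Subgroup.zpowers z
  have hplane : ∀ (o : G), o ∈ coreC t → ∀ i j l : ℕ, o * x * o⁻¹ = x ^ i * (y ^ j * z ^ l) →
      ∃ s : ℕ, s < r ∧ (P 0).map (MulAut.conj o).toMonoidHom = P s ∧ ∃ e : ℕ, s ≡ j * e [MOD r] ∧ ¬ r ∣ e := by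
    intro o ho i j l hij
    have hi := conj_x_coord h E ho hij
    obtain ⟨e, he⟩ := exists_pow_eq_self_of_coprime (n := i) (x := x)
      (by rw [E.x_order]; exact (hr.out.coprime_iff_not_dvd.2 hi).symm)
    obtain ⟨m, hm⟩ := exists_pow_coord h E i j l e
    rw [pow_mul, he, ← hij] at hm
    have her : ¬ r ∣ e := by
      rintro ⟨q, rfl⟩
      rw [pow_mul, E.exponent _ (pow_mem E.x_mem i), one_pow] at he
      exact ex_x_ne h E he.symm
    have hs : y ^ (j * e % r) = y ^ (j * e) := ex_exponent_mod h E E.y_mem _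
    refine ⟨j * e % r, Nat.mod_lt _ hr.out.pos, ?_, e, Nat.mod_modEq _ _, her⟩
    have hmap : (P 0).map (MulAut.conj o).toMonoidHom =
        Subgroup.zpowers (o * x * o⁻¹) ⊔ Subgroup.zpowers z := by
      show (Subgroup.zpowers (x * y ^ 0) ⊔ Subgroup.zpowers z).map _ = _
      rw [Subgroup.map_sup, MonoidHom.map_zpowers, MonoidHom.map_zpowers, pow_zero, mul_one]
      simp only [MulEquiv.coe_toMonoidHom, MulAut.conj_apply, mul_conj_fixed (E.z_central o ho)]
    rw [hmap]
    show _ = Subgroup.zpowers (x * y ^ (j * e % r)) ⊔ Subgroup.zpowers z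
    rw [hs]
    have hw : x * y ^ (j * e) = (o * x * o⁻¹) ^ e * (z ^ m)⁻¹ := by
      rw [hm, ← mul_assoc, mul_inv_cancel_right]
    refine le_antisymm (sup_le (Subgroup.zpowers_le.2 ?_) le_sup_right) (sup_le (Subgroup.zpowers_le.2 ?_) le_sup_right)
    · obtain ⟨e', he'⟩ := exists_pow_eq_self_of_coprime (n := e) (x := o * x * o⁻¹)
        (by rw [show orderOf (o * x * o⁻¹) = r from (MulEquiv.orderOf_eq (MulAut.conj o) x).trans E.x_order]
            exact (hr.out.coprime_iff_not_dvd.2 her).symm)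
      rw [← he', hm, ← mul_assoc]
      exact pow_mem (mul_mem (Subgroup.mem_sup_left (Subgroup.mem_zpowers _))
        (Subgroup.mem_sup_right (pow_mem (Subgroup.mem_zpowers z) m))) e'
    · rw [hw]
      exact mul_mem (Subgroup.mem_sup_left (pow_mem (Subgroup.mem_zpowers _) e))
        (Subgroup.mem_sup_right (inv_mem (pow_mem (Subgroup.mem_zpowers z) m)))
  have hP0 : ∀ w ∈ P 0, w ∈ B ∧ w * x = x * w := by
    intro w hw
    have hle : P 0 ≤ B ⊓ Subgroup.centralizer ({x} : Set G) := sup_le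
      (Subgroup.zpowers_le.2 ⟨by rw [pow_zero, mul_one]; exact E.x_mem,
        Subgroup.mem_centralizer_singleton_iff.2 (by rw [pow_zero, mul_one])⟩)
      (Subgroup.zpowers_le.2 ⟨E.z_mem, Subgroup.mem_centralizer_singleton_iff.2 hxz.eq.symm⟩)
    exact ⟨(hle hw).1, Subgroup.mem_centralizer_singleton_iff.1 (hle hw).2⟩
  -- `R` fixes the plane of `x`
  have hfix : ∀ g ∈ R, ∃ i l : ℕ, g * x * g⁻¹ = x ^ i * z ^ l := by
    intro g hg
    obtain ⟨i, j, l, hij⟩ := E.dec _ (E.inv.conj g (hRO hg) x E.x_mem)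
    by_cases hj : r ∣ j
    · obtain ⟨q, rfl⟩ := hj
      exact ⟨i, l, by rw [hij, pow_mul, E.exponent y E.y_mem, one_pow, one_mul]⟩
    exfalso
    -- otherwise every plane is conjugate to it
    letI : MulAction R (Subgroup G) := MulAction.compHom _ ((MulAut.conj : G →* MulAut G).comp R.subtype)
    have hsm : ∀ (g : R) (K : Subgroup G), g • K = K.map (MulAut.conj (g : G)).toMonoidHom := fun g K => rfl
    have hsub : MulAction.orbit R (P 0) ⊆ Set.range fun s : Fin r => P s := by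
      rintro _ ⟨g', rfl⟩
      obtain ⟨i', j', l', hij'⟩ := E.dec _ (E.inv.conj g' (hRO g'.2) x E.x_mem)
      obtain ⟨s, hs, hPs, -⟩ := hplane g' (hRO g'.2) i' j' l' hij'
      exact ⟨⟨s, hs⟩, by simp only [hsm, hPs]⟩
    obtain ⟨s, hs, hPs, e, hse, her⟩ := hplane g (hRO hg) i j l hij
    have hne : P s ≠ P 0 := fun heq => hj (by
      have h1 : x * y ^ s ∈ P 0 := heq ▸ Subgroup.mem_sup_left (Subgroup.mem_zpowers (x * y ^ s))
      have h2 := (hP0 _ h1).2
      have h3 : y ^ s * x = x * y ^ s := by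
        have h4 : x * (y ^ s * x) = x * (x * y ^ s) := by rw [← mul_assoc]; exact h2
        exact mul_left_cancel h4
      have h5 := hshift 1 s
      rw [pow_one, one_mul, mul_conj_fixed h3.symm] at h5
      have h6 : r ∣ s := hco ▸ orderOf_dvd_of_pow_eq_one (mul_eq_left.1 h5.symm)
      exact ((hr.out.dvd_mul.1 ((hse.dvd_iff dvd_rfl).1 h6)).resolve_right her))
    have horb : ∀ s' : ℕ, s' < r → P s' ∈ MulAction.orbit R (P 0) := by
      obtain ⟨n, hn⟩ := hRp.card_orbit (P 0)
      have hle : Nat.card (MulAction.orbit R (P 0)) ≤ r := by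
        refine le_trans (Nat.card_mono (Set.toFinite _) hsub) ?_
        exact (Finite.card_range_le _).trans (le_of_eq (Nat.card_fin r))
      have hn0 : n ≠ 0 := by
        intro e0
        rw [e0, pow_zero, Nat.card_eq_one_iff_unique] at hn
        obtain ⟨hsing, -⟩ := hn
        exact hne (congrArg Subtype.val (hsing.elim (⟨P s, ⟨⟨g, hg⟩, by simp only [hsm, hPs]⟩⟩ : MulAction.orbit R (P 0))
          ⟨P 0, MulAction.mem_orbit_self _⟩))
      have hge : r ≤ Nat.card (MulAction.orbit R (P 0)) := hn ▸ Nat.le_self_pow hn0 r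
      have heq := Set.eq_of_subset_of_ncard_le hsub (by
        rw [← Nat.card_coe_set_eq, ← Nat.card_coe_set_eq]
        exact ((Finite.card_range_le _).trans (le_of_eq (Nat.card_fin r))).trans hge) (Set.toFinite _)
      intro s' hs'
      rw [heq]
      exact ⟨⟨s', hs'⟩, rfl⟩
    -- so `O` normalises the inverted plane
    let J : Subgroup G :=
      { carrier := {w | ∃ j l : ℕ, w = y ^ j * z ^ l}
        one_mem' := ⟨0, 0, by simp⟩
        mul_mem' := by
          rintro _ _ ⟨j, l, rfl⟩ ⟨j', l', rfl⟩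
          exact ⟨j + j', l + l', by
            rw [((show Commute y z from E.yz).pow_pow j' l).symm.mul_mul_mul_comm, ← pow_add, ← pow_add]⟩
        inv_mem' := by
          rintro _ ⟨j, l, rfl⟩
          refine E.inverted _ (inv_mem (mul_mem (pow_mem E.y_mem j) (pow_mem E.z_mem l))) ?_
          rw [← conj_inv, ex_inverted_pow h E] }
    have hJB : J ≤ B := by
      rintro _ ⟨j, l, rfl⟩
      exact mul_mem (pow_mem E.y_mem j) (pow_mem E.z_mem l)
    have hyo : ∀ o ∈ coreC t, o * y * o⁻¹ ∈ J := by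
      intro o ho
      obtain ⟨i', j', l', ho'⟩ := E.dec _ (E.inv.conj o ho y E.y_mem)
      by_cases hi' : r ∣ i'
      · obtain ⟨q, rfl⟩ := hi'
        exact ⟨j', l', by rw [ho', pow_mul, E.exponent x E.x_mem, one_pow, one_mul]⟩
      exfalso
      -- `o y o⁻¹` lies in some plane
      obtain ⟨e', he'⟩ := exists_pow_eq_self_of_coprime (n := i') (x := x)
        (by rw [E.x_order]; exact (hr.out.coprime_iff_not_dvd.2 hi').symm)
      obtain ⟨m, hm⟩ := exists_pow_coord h E i' j' l' e'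
      rw [pow_mul, he', ← ho'] at hm
      obtain ⟨⟨g', hg'⟩, hgP⟩ := horb (j' * e' % r) (Nat.mod_lt _ hr.out.pos)
      have hyP : (o * y * o⁻¹) ^ e' ∈ P (j' * e' % r) := by
        rw [hm, ← mul_assoc]
        refine mul_mem (Subgroup.mem_sup_left ?_) (Subgroup.mem_sup_right (pow_mem (Subgroup.mem_zpowers z) m))
        rw [ex_exponent_mod h E E.y_mem]
        exact Subgroup.mem_zpowers _
      rw [← hgP] at hyP
      obtain ⟨w, hw, hwe⟩ := hyP
      change g' * w * g'⁻¹ = _ at hwe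
      -- hence a power of `y` is conjugate into the plane of `x`
      obtain ⟨hwB, hwx⟩ := hP0 w hw
      obtain ⟨i'', j'', l'', hwc⟩ := E.dec w hwB
      have hj'' : r ∣ j'' := by
        have h1 : x * w * x⁻¹ = w := mul_conj_fixed hwx.symm
        have h2 := hshift 1 j''
        rw [pow_one, one_mul] at h2
        rw [hwc, show x * (x ^ i'' * (y ^ j'' * z ^ l'')) * x⁻¹ =
            x * x ^ i'' * x⁻¹ * (x * y ^ j'' * x⁻¹ * (x * z ^ l'' * x⁻¹)) by group,
          mul_conj_fixed ((Commute.refl x).pow_right i'').eq, h2, mul_conj_fixed (hxz.pow_right l'').eq,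
          mul_assoc] at h1
        exact hco ▸ orderOf_dvd_of_pow_eq_one (mul_eq_right.1 (mul_left_cancel (mul_left_cancel h1)))
      obtain ⟨q, rfl⟩ := hj''
      rw [pow_mul, E.exponent y E.y_mem, one_pow, one_mul] at hwc
      set q' := o⁻¹ * g' with hq'
      have hq'O : q' ∈ coreC t := mul_mem (inv_mem ho) (hRO hg')
      have hwy : q' * w * q'⁻¹ = y ^ e' := by
        calc q' * w * q'⁻¹ = o⁻¹ * (g' * w * g'⁻¹) * o := by rw [hq']; group
          _ = o⁻¹ * (o * y * o⁻¹) ^ e' * o := by rw [hwe]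
          _ = y ^ e' := by rw [conj_pow]; group
      have hqx : q' * x ^ i'' * q'⁻¹ = y ^ e' * (z ^ l'')⁻¹ := by
        rw [← hwy, hwc]
        have hz := mul_conj_fixed ((show Commute q' z from E.z_central q' hq'O).pow_right l'').eq
        calc q' * x ^ i'' * q'⁻¹ = q' * (x ^ i'' * z ^ l'') * q'⁻¹ * (q' * z ^ l'' * q'⁻¹)⁻¹ := by group
          _ = _ := by rw [hz]
      have hxi : x ^ i'' = 1 := by
        refine eq_one_of_conj_inverted h (pow_mem E.x_core _) hq'O ?_
        rw [hqx, show a * (y ^ e' * (z ^ l'')⁻¹) * a⁻¹ = a * y ^ e' * a⁻¹ * (a * z ^ l'' * a⁻¹)⁻¹ by group,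
          ← conj_pow, ← conj_pow, E.y_inv, E.z_inv, inv_pow, inv_pow,
          (((show Commute y z from E.yz).pow_pow e' l'').inv_right).mul_inv]
      rw [hxi, mul_one, mul_inv_cancel] at hqx
      have hyz : y ^ e' ∈ Subgroup.zpowers z := by
        rw [mul_inv_eq_one.1 hqx.symm]; exact pow_mem (Subgroup.mem_zpowers z) _
      have he'r : ¬ r ∣ e' := by
        rintro ⟨q, rfl⟩
        rw [pow_mul, E.exponent _ (pow_mem E.x_mem i'), one_pow] at he'
        exact ex_x_ne h E he'.symm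
      obtain ⟨e'', he''⟩ := exists_pow_eq_self_of_coprime (n := e') (x := y)
        ((hr.out.coprime_iff_not_dvd.2 he'r).coprime_dvd_left
          (orderOf_dvd_of_pow_eq_one (E.exponent y E.y_mem))).symm
      exact y_notMem h E (he'' ▸ pow_mem hyz e'')
    have hJinv : InvSub t a J :=
      { le := hJB.trans E.inv.le
        conj := by
          rintro o ho _ ⟨j, l, rfl⟩
          rw [show o * (y ^ j * z ^ l) * o⁻¹ = o * y ^ j * o⁻¹ * (o * z ^ l * o⁻¹) by group,
            ← conj_pow, mul_conj_fixed ((show Commute o z from E.z_central o ho).pow_right l).eq]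
          exact mul_mem (pow_mem (hyo o ho) j) ⟨0, l, by simp⟩
        conj_a := by
          rintro _ ⟨j, l, rfl⟩
          rw [ex_inverted_pow h E]
          exact inv_mem ⟨j, l, rfl⟩ }
    have h1 := commute_of_inverted h hJinv (by rintro _ ⟨j, l, rfl⟩; exact ex_inverted_pow h E j l) x
      (core_le h E.x_core) y ⟨1, 0, by simp⟩
    obtain ⟨c', -, hc'1, hs'⟩ := E.shift
    exact hc'1 (mul_eq_left.1 ((mul_conj_fixed h1).symm.trans hs').symm)
  -- a power `≡ 1`
  have hfermat : ∀ (g : G) (v : G) (i : ℕ), g ∈ R → orderOf v = r →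
      (∀ n : ℕ, ∃ w ∈ Subgroup.zpowers z, g ^ n * v * (g ^ n)⁻¹ = v ^ i ^ n * w) →
      v ∉ Subgroup.zpowers z → v ^ i = v := by
    intro g v i hg hvo hit hvz
    obtain ⟨k, hk⟩ := hRp ⟨g, hg⟩
    have hgk : g ^ r ^ k = 1 := congrArg Subtype.val hk
    obtain ⟨w, hw, hwe⟩ := hit (r ^ k)
    rw [hgk, one_mul, inv_one, mul_one] at hwe
    have h1 : (i : ZMod r) ^ r ^ k = (i : ZMod r) := ZMod.pow_card_pow _
    have h2 : v ^ i ^ r ^ k = v ^ i := by
      refine pow_eq_pow_iff_modEq.2 ?_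
      rw [hvo, ← ZMod.natCast_eq_natCast_iff, Nat.cast_pow, h1]
    rw [h2] at hwe
    by_contra hne
    -- `v ^ (i - 1)` would lie in `⟨z⟩`
    have hmem : v⁻¹ * v ^ i ∈ Subgroup.zpowers z := by
      rw [show v⁻¹ * v ^ i = v⁻¹ * (v ^ i * w) * w⁻¹ by group, ← hwe, inv_mul_cancel, one_mul]
      exact inv_mem hw
    have hne1 : v⁻¹ * v ^ i ≠ 1 := fun e => hne (inv_mul_eq_one.1 e).symm
    have hvB : Subgroup.zpowers (v⁻¹ * v ^ i) = Subgroup.zpowers v := Subgroup.eq_of_le_of_card_ge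
      (Subgroup.zpowers_le.2 (mul_mem (inv_mem (Subgroup.mem_zpowers v)) (pow_mem (Subgroup.mem_zpowers v) i)))
      (by
        rw [Nat.card_zpowers, Nat.card_zpowers, hvo]
        have hd : orderOf (v⁻¹ * v ^ i) ∣ r := by
          rw [← hvo, ← Nat.card_zpowers v]
          exact Subgroup.orderOf_dvd_natCard _
            (mul_mem (inv_mem (Subgroup.mem_zpowers v)) (pow_mem (Subgroup.mem_zpowers v) i))
        rcases (Nat.dvd_prime hr.out).1 hd with h3 | h3
        · exact absurd (orderOf_eq_one_iff.1 h3) hne1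
        · exact h3.ge)
    exact hvz ((Subgroup.zpowers_le.2 hmem) (hvB ▸ Subgroup.mem_zpowers v))
  -- `g x g⁻¹ ∈ x ⟨z⟩`
  have hfix1 : ∀ g ∈ R, ∃ l : ℕ, g * x * g⁻¹ = x * z ^ l := by
    intro g hg
    obtain ⟨i, l, hil⟩ := hfix g hg
    have hit : ∀ n : ℕ, ∃ w ∈ Subgroup.zpowers z, g ^ n * x * (g ^ n)⁻¹ = x ^ i ^ n * w := by
      intro n
      induction n with
      | zero => exact ⟨1, one_mem _, by simp⟩
      | succ n ih =>
        obtain ⟨w, hw, hwe⟩ := ih
        obtain ⟨m, rfl⟩ := exists_pow_of_mem_zpowers h hw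
        refine ⟨z ^ (l * i ^ n + m), pow_mem (Subgroup.mem_zpowers z) _, ?_⟩
        calc g ^ (n + 1) * x * (g ^ (n + 1))⁻¹ = g * (g ^ n * x * (g ^ n)⁻¹) * g⁻¹ := by
              rw [pow_succ' g n]; group
          _ = g * x ^ i ^ n * g⁻¹ * (g * z ^ m * g⁻¹) := by rw [hwe]; group
          _ = (x ^ i * z ^ l) ^ i ^ n * z ^ m := by
              rw [← conj_pow, hil, mul_conj_fixed ((show Commute g z from E.z_central g (hRO hg)).pow_right m).eq]
          _ = x ^ i ^ (n + 1) * z ^ (l * i ^ n + m) := by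
              rw [((hxz.pow_left i).pow_right l).mul_pow, ← pow_mul, ← pow_mul, mul_assoc, ← pow_add,
                pow_succ' i n]
    have hx1 := hfermat g x i hg E.x_order hit fun hxz' => by
      obtain ⟨m, hm⟩ := exists_pow_of_mem_zpowers h hxz'
      refine ex_x_ne h E (eq_one_of_both h (core_le h E.x_core) (ex_x_fix h E) ?_)
      rw [hm, ← conj_pow, E.z_inv, inv_pow]
    exact ⟨l, by rw [hil, hx1]⟩
  -- every element of `R` is in `B C_R(x)`
  have hRx : ∀ g ∈ R, ∃ k : ℕ, ∃ w ∈ R, w * x = x * w ∧ g = y ^ k * w := by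
    intro g hg
    obtain ⟨l, hl⟩ := hfix1 g hg
    obtain ⟨k, hk⟩ := hgen _ (inv_mem (pow_mem (Subgroup.mem_zpowers z) l))
    refine ⟨k, (y ^ k)⁻¹ * g, mul_mem (inv_mem (pow_mem (hBR E.y_mem) k)) hg, ?_, by group⟩
    have h1 := hshift 1 k
    rw [pow_one, one_mul, ← hk] at h1
    refine mul_inv_eq_iff_eq_mul.1 ?_
    have hyx : (y ^ k)⁻¹ * x * y ^ k = x * (z ^ l)⁻¹ := by
      calc (y ^ k)⁻¹ * x * y ^ k = (y ^ k)⁻¹ * (x * y ^ k * x⁻¹) * x := by group
        _ = (z ^ l)⁻¹ * x := by rw [h1, inv_mul_cancel_left]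
        _ = x * (z ^ l)⁻¹ := ((hxz.pow_right l).inv_right).eq.symm
    calc (y ^ k)⁻¹ * g * x * ((y ^ k)⁻¹ * g)⁻¹ = (y ^ k)⁻¹ * (g * x * g⁻¹) * y ^ k := by group
      _ = (y ^ k)⁻¹ * x * y ^ k * ((y ^ k)⁻¹ * z ^ l * y ^ k) := by rw [hl]; group
      _ = x := by
          rw [hyx, show (y ^ k)⁻¹ * z ^ l * y ^ k = z ^ l by
            rw [mul_assoc, ((show Commute y z from E.yz).pow_pow k l).symm.eq, inv_mul_cancel_left],
            inv_mul_cancel_right]
  -- the fixed points of `C_R(x)` lie in `B`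
  have hfixed : ∀ d ∈ R, d * x = x * d → a * d = d * a → d ∈ B := by
    intro d hd hdx hda
    have hdO := hRO hd
    have hdy : a * (d * y * d⁻¹) * a⁻¹ = (d * y * d⁻¹)⁻¹ := by
      rw [show a * (d * y * d⁻¹) * a⁻¹ = a * d * a⁻¹ * (a * y * a⁻¹) * (a * d * a⁻¹)⁻¹ by group,
        mul_conj_fixed hda, E.y_inv]
      group
    obtain ⟨q, m, hqm⟩ := E.inverted _ (E.inv.conj d hdO y E.y_mem) hdy
    have hyzn : ∀ i : ℕ, Commute (y ^ i) z := fun i => (show Commute y z from E.yz).pow_left i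
    have hit : ∀ n : ℕ, ∃ w ∈ Subgroup.zpowers z, d ^ n * y * (d ^ n)⁻¹ = y ^ q ^ n * w := by
      intro n
      induction n with
      | zero => exact ⟨1, one_mem _, by simp⟩
      | succ n ih =>
        obtain ⟨w, hw, hwe⟩ := ih
        obtain ⟨m', rfl⟩ := exists_pow_of_mem_zpowers h hw
        refine ⟨z ^ (m * q ^ n + m'), pow_mem (Subgroup.mem_zpowers z) _, ?_⟩
        calc d ^ (n + 1) * y * (d ^ (n + 1))⁻¹ = d * (d ^ n * y * (d ^ n)⁻¹) * d⁻¹ := by
              rw [pow_succ' d n]; group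
          _ = d * y ^ q ^ n * d⁻¹ * (d * z ^ m' * d⁻¹) := by rw [hwe]; group
          _ = (y ^ q * z ^ m) ^ q ^ n * z ^ m' := by
              rw [← conj_pow, hqm, mul_conj_fixed ((show Commute d z from E.z_central d hdO).pow_right m').eq]
          _ = y ^ q ^ (n + 1) * z ^ (m * q ^ n + m') := by
              rw [((hyzn q).pow_right m).mul_pow, ← pow_mul, ← pow_mul, mul_assoc, ← pow_add, pow_succ' q n]
    have hyo : orderOf y = r := orderOf_eq_prime (E.exponent y E.y_mem) fun e =>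
      y_notMem h E (e ▸ one_mem _)
    rw [hfermat d y q hd hyo hit (y_notMem h E)] at hqm
    obtain ⟨k, hk⟩ := hgen _ (pow_mem (Subgroup.mem_zpowers z) m)
    set d' := (x ^ k)⁻¹ * d with hd'
    have hd'x : d' * x = x * d' := (((Commute.refl x).pow_left k).inv_left.mul_left hdx).eq
    have hd'y : d' * y = y * d' := by
      refine mul_inv_eq_iff_eq_mul.1 ?_
      have h1 := hshift k 1
      rw [pow_one, mul_one, ← hk] at h1
      calc d' * y * d'⁻¹ = (x ^ k)⁻¹ * (d * y * d⁻¹) * x ^ k := by rw [hd']; group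
        _ = (x ^ k)⁻¹ * (x ^ k * y * (x ^ k)⁻¹) * x ^ k := by rw [hqm, h1]
        _ = y := by group
    have hd'a : a * d' = d' * a :=
      (((show Commute a x from ex_x_fix h E).pow_right k).inv_right.mul_right hda).eq
    have hd'O : d' ∈ coreC t := mul_mem (inv_mem (E.inv.le (pow_mem E.x_mem k))) hdO
    have hd'1 : d' = 1 := by
      by_contra hne
      have hd'R : d' ∈ R := mul_mem (inv_mem (hBR (pow_mem E.x_mem k))) hd
      obtain ⟨n, hn⟩ := IsPGroup.iff_orderOf.1 hRp ⟨d', hd'R⟩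
      rw [Subgroup.orderOf_mk] at hn
      have hn0 : n ≠ 0 := fun e => hne (orderOf_eq_one_iff.1 (by rw [hn, e, pow_zero]))
      set u := d' ^ (orderOf d' / r) with hu
      have huo : orderOf u = r := orderOf_pow_orderOf_div (orderOf_pos d').ne' (hn ▸ dvd_pow_self r hn0)
      have huD : u ∈ coreV V := (mem_core_iff h).2
        ⟨pow_mem hd'O _, ((show Commute a d' from hd'a).pow_right _).eq⟩
      exact y_notMem h E (mem_zpowers_of_inverted h hMK hr.out hrd huD (huo ▸ hr.out)
        (E.inv.le E.y_mem) (E.inv.le E.z_mem) ((show Commute d' y from hd'y).pow_left _).eq.symm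
        ((show Commute d' z from E.z_central d' hd'O).pow_left _).eq.symm E.y_inv E.z_inv
        (E.exponent y E.y_mem) (E.exponent z E.z_mem) (ex_z_ne h E) E.yz)
    rw [hd', inv_mul_eq_one] at hd'1
    exact hd'1 ▸ pow_mem E.x_mem k
  refine le_antisymm (fun g hg => ?_) hBR
  obtain ⟨k, w, hw, hwx, rfl⟩ := hRx g hg
  refine mul_mem (pow_mem E.y_mem k) ?_
  set K := R ⊓ Subgroup.centralizer ({x} : Set G) with hK
  have hKmem : ∀ {v : G}, v ∈ K ↔ v ∈ R ∧ v * x = x * v := fun {v} => by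
    rw [hK, Subgroup.mem_inf, Subgroup.mem_centralizer_singleton_iff]
  obtain ⟨d, hd, hda, l, hl, hli, rfl⟩ := exists_fixed_mul_inverted
    (Odd.of_dvd_nat (coreC_odd t) (Subgroup.card_dvd_of_le (inf_le_left.trans hRO : K ≤ coreC t)))
    (ctx h).a_sq (fun v hv => hKmem.2 ⟨hRa v (hKmem.1 hv).1, by
      have h1 := (hKmem.1 hv).2
      calc a * v * a⁻¹ * x = a * v * a⁻¹ * (a * x * a⁻¹) := by rw [mul_conj_fixed (ex_x_fix h E)]
        _ = a * (v * x) * a⁻¹ := by group
        _ = a * x * a⁻¹ * (a * v * a⁻¹) := by rw [h1]; group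
        _ = x * (a * v * a⁻¹) := by rw [mul_conj_fixed (ex_x_fix h E)]⟩) (hKmem.2 ⟨hw, hwx⟩)
  obtain ⟨n, hn⟩ := hRp ⟨l, (hKmem.1 hl).1⟩
  exact mul_mem (hfixed d (hKmem.1 hd).1 (hKmem.1 hd).2 hda)
    ((Subgroup.zpowers_le.2 E.z_mem) (inverted_centralizing_mem h E hMK hLT hrd (hRO (hKmem.1 hl).1)
      (hKmem.1 hl).2 hli n (congrArg Subtype.val hn)))

/-- The extraspecial case. -/
theorem heisenberg_of_exData (hMK : PropModelKlein.{u}) (hLT : PropLineTorus.{u})
    (hrd : r ∣ Nat.card (coreV V)) : Heisenberg V t a r x z B := by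
  classical
  have hn : coreC t ≤ Subgroup.normalizer (B : Set G) := fun o ho =>
    Subgroup.mem_normalizer_fintype fun k hk => E.inv.conj o ho k hk
  have hVn : V ≤ Subgroup.normalizer (coreC t : Set G) :=
    (ctx h).four_le.trans (centralizer_le_normalizer_coreC t)
  have hcop : (Nat.card V).Coprime (Nat.card (coreC t)) := by
    rw [h.four.1]; exact (Nat.coprime_two_left.2 (coreC_odd t)).pow_left 2
  have hBV : V ≤ Subgroup.normalizer (B : Set G) := by
    refine h.four.eq_of_mem h.t_mem h.a_mem h.t_ne h.a_ne h.ne.symm ?_ ?_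
    · exact Subgroup.mem_normalizer_fintype fun k hk => by
        rw [SetLike.mem_coe, mul_conj_fixed ((ctx h).core_comm (E.inv.le hk)).symm]; exact hk
    · exact Subgroup.mem_normalizer_fintype E.inv.conj_a
  have hBp : IsPGroup r B := fun g => ⟨1, Subtype.ext (by rw [pow_one]; exact E.exponent g g.2)⟩
  obtain ⟨P, hBP, hPV⟩ := Coprime.exists_invariant_sylow_ge hVn hcop (Or.inr (isSolvable_coreC t)) r B
    E.inv.le hBp hBV
  set R := (P : Subgroup ↥(coreC t)).map (coreC t).subtype with hR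
  have hRB : R = B := sylow_eq h E hMK hLT hrd (Subgroup.map_subtype_le _) (P.2.map _) hBP
    fun g hg => (Subgroup.mem_normalizer_iff.1 (hPV h.a_mem) g).1 hg
  have hsyl : (Nat.card (coreC t)).factorization r = 3 := by
    have h1 := Coprime.card_sylow_map P
    rw [← hR, hRB, card_exData h E] at h1
    exact (Nat.pow_right_injective hr.out.two_le h1).symm
  refine
    { le := E.inv.le, normal := hn, card := card_exData h E, sylow := hsyl, exponent := E.exponent,
      x_mem := E.x_mem, z_mem := E.z_mem, z_order := E.z_order, z_inverted := E.z_inv,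
      z_central := fun o ho => Subgroup.mem_centralizer_singleton_iff.2 (E.z_central o ho),
      comm := E.comm, cent := fun g hg => cent_exData h E hg, core_part := ?_ }
  -- the `r`-part of `D`
  obtain ⟨S⟩ : Nonempty (Sylow r ↥(coreV V)) := inferInstance
  set S' := (S : Subgroup ↥(coreV V)).map (coreV V).subtype with hS'
  have hS'D : S' ≤ coreV V := Subgroup.map_subtype_le _
  have hS'B : S' ≤ B := by
    obtain ⟨T, hT⟩ := ((S.2.map (coreV V).subtype).of_equiv
      (Subgroup.subgroupOfEquivOfLe (hS'D.trans (core_le h))).symm).exists_le_sylow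
    obtain ⟨o, ho, hoT⟩ := Coprime.exists_conj_sylow_map P T
    intro g hg
    have h1 : g ∈ (T : Subgroup ↥(coreC t)).map (coreC t).subtype :=
      ⟨⟨g, core_le h (hS'D hg)⟩, hT hg, rfl⟩
    rw [← hoT, ← hR, hRB, Coprime.mem_conj_smul] at h1
    have h2 := E.inv.conj o ho _ h1
    rwa [show o * (o⁻¹ * g * o) * o⁻¹ = g by group] at h2
  have hS'x : S' ≤ Subgroup.zpowers x := fun g hg => by
    obtain ⟨i, j, l, hgc⟩ := E.dec g (hS'B hg)
    have hga := mul_conj_fixed ((mem_core_iff h).1 (hS'D hg)).2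
    have hw : y ^ j * z ^ l = 1 := by
      refine eq_one_of_both h (E.inv.le (mul_mem (pow_mem E.y_mem j) (pow_mem E.z_mem l)))
        (mul_inv_eq_iff_eq_mul.1 ?_) (ex_inverted_pow h E j l)
      rw [show y ^ j * z ^ l = (x ^ i)⁻¹ * g by rw [hgc, inv_mul_cancel_left],
        show a * ((x ^ i)⁻¹ * g) * a⁻¹ = (a * x ^ i * a⁻¹)⁻¹ * (a * g * a⁻¹) by group, ← conj_pow,
        mul_conj_fixed (ex_x_fix h E), hga]
    rw [hgc, hw, mul_one]
    exact pow_mem (Subgroup.mem_zpowers x) i
  have h1 := Coprime.card_sylow_map S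
  rw [← hS'] at h1
  have h2 := Subgroup.card_le_of_le hS'x
  rw [Nat.card_zpowers, E.x_order, h1] at h2
  refine le_antisymm ?_ (hr.out.factorization_pos_of_dvd Nat.card_pos.ne' hrd)
  exact (Nat.pow_le_pow_iff_right hr.out.one_lt).1 (by rw [pow_one]; exact h2)

end Cfsg.Agent.Lib.GorensteinWalter.Four.Plane
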