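import Cfsg.Agent.Lib.GorensteinWalter.Four.Plane.Setting
import Cfsg.Agent.Lib.GorensteinWalter.FusedCentralizerMain

/-!
# Gorenstein–Walter, section 3 for `|S| = 4`: the torus of a fused centraliser

For `x ∈ D` of prime order, the elements of `O ∩ C(x)` inverted by `a` have commuting images in a cyclic
subgroup of `C(x)/O(C(x))`, and none of order `r` lies in `O(C(x))`.
-/

set_option autoImplicit false
set_option linter.unusedSectionVars false
set_option linter.style.haveILetI false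

namespace Cfsg.Agent.Lib.GorensteinWalter.Four.Plane

open Cfsg.Agent.Lib.Fusion.Dihedral

universe u

variable {G : Type u} [Group G] [Finite G] {V : Subgroup G} {t a : G}
variable (h : FourSetting V t a)
include h

theorem not_mem_core {r : ℕ} (hr : r.Prime) (hrd : r ∣ Nat.card (coreV V)) {x : G} (hx : x ∈ coreV V)
    (hp : (orderOf x).Prime) {y : G} (hy : y ∈ coreC t) (hyr : ∃ k, y ^ r ^ k = 1)
    (hyi : a * y * a⁻¹ = y⁻¹) (hcore : y ∈ coreOf (Subgroup.centralizer ({x} : Set G))) : y = 1 := by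
  haveI := Fact.mk hr
  by_contra hy1
  refine not_mem_coreOf_of_inverted (p := r) (fun W H => h.noConf r hr hrd W H)
    (centralizer_ne_top h hx fun e => by rw [e, orderOf_one] at hp; exact Nat.not_prime_one hp)
    (h.fused x hx hp) h.t_mem h.a_mem h.t_ne h.a_ne h.ne.symm ?_ (core_odd h hy) hy1
    ((ctx h).core_comm hy).symm hyi hcore
  obtain ⟨k, hk⟩ := hyr
  obtain ⟨i, -, hi⟩ := (Nat.dvd_prime_pow hr).1 (orderOf_dvd_of_pow_eq_one hk)
  exact IsPGroup.of_card (n := i) (by rw [Nat.card_zpowers, hi])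

theorem exists_torus (hMK : PropModelKlein.{u}) {x : G} (hx : x ∈ coreV V) (hp : (orderOf x).Prime)
    {z : G} (hz : z ∈ coreC t) (hzx : z * x = x * z) (hzi : a * z * a⁻¹ = z⁻¹)
    (hzc : z ∉ coreOf (Subgroup.centralizer ({x} : Set G))) :
    let H := Subgroup.centralizer ({x} : Set G)
    ∃ C : Subgroup (H ⧸ Cfsg.oddCore H), IsCyclic C ∧
      ∀ y : H, (y : G) ∈ coreC t → a * (y : G) * a⁻¹ = (y : G)⁻¹ →
        (QuotientGroup.mk' (Cfsg.oddCore H) y) ∈ C := by
  intro H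
  classical
  haveI : Fact (Nat.Prime 2) := ⟨Nat.prime_two⟩
  have hF := h.fused x hx hp
  have hVH : V ≤ H := hF.2.1
  have hHtop : H ≠ ⊤ :=
    centralizer_ne_top h hx fun e => by rw [e, orderOf_one] at hp; exact Nat.not_prime_one hp
  let f : H →* H ⧸ Cfsg.oddCore H := QuotientGroup.mk' _
  have hfs : Function.Surjective f := QuotientGroup.mk'_surjective _
  have hinj : ∀ u : H, (u : G) ∈ V → f u = 1 → u = 1 := by
    intro u hu he
    have hmem : u ∈ Cfsg.oddCore H := (QuotientGroup.eq_one_iff _).1 he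
    refine orderOf_eq_one_iff.1 (Nat.eq_one_of_dvd_coprimes
      (Nat.coprime_two_left.2 Cores.oddCore_odd) (orderOf_dvd_of_pow_eq_one ?_)
      (Subgroup.orderOf_dvd_natCard _ hmem))
    exact Subtype.ext (by show (u : G) ^ 2 = 1; rw [sq]; exact h.four.2 _ hu)
  set V' := (V.subgroupOf H).map f with hV'
  have hfne : ∀ u : H, (u : G) ∈ V → (u : G) ≠ 1 → f u ≠ 1 := fun u hu h1 e =>
    h1 (by rw [hinj u hu e]; rfl)
  have hV4 : IsFour V' := by
    refine ⟨?_, ?_⟩
    · rw [hV', show (V.subgroupOf H).map f = (f.comp (V.subgroupOf H).subtype).range by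
          rw [MonoidHom.range_comp, Subgroup.range_subtype],
        ← Nat.card_congr (MonoidHom.ofInjective (f := f.comp (V.subgroupOf H).subtype)
          ((injective_iff_map_eq_one _).2 fun u hu =>
            Subtype.ext (hinj u (Subgroup.mem_subgroupOf.1 u.2) hu))).toEquiv,
        Nat.card_congr (Subgroup.subgroupOfEquivOfLe hVH).toEquiv, h.four.1]
    · rintro _ ⟨u, hu, rfl⟩
      rw [← map_mul, show u * u = 1 from Subtype.ext (h.four.2 _ hu), map_one]
  have hsmall : ∀ S : Sylow 2 (H ⧸ Cfsg.oddCore H),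
      Nat.card (S : Subgroup (H ⧸ Cfsg.oddCore H)) = 4 := by
    intro S
    refine le_antisymm ?_ ?_
    · obtain ⟨T⟩ : Nonempty (Sylow 2 H) := inferInstance
      have h1 : Nat.card (S : Subgroup (H ⧸ Cfsg.oddCore H)) ∣ 2 ^ (Nat.card H).factorization 2 := by
        rw [S.card_eq_multiplicity]
        exact pow_dvd_pow 2 ((Nat.factorization_le_iff_dvd Nat.card_pos.ne' Nat.card_pos.ne').2
          (Subgroup.card_quotient_dvd_card _) 2)
      refine (Nat.le_of_dvd (by positivity) h1).trans ?_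
      rw [← T.card_eq_multiplicity, ← Subgroup.card_map_of_injective H.subtype_injective]
      exact (ctx h).small _ (T.2.map _)
    · obtain ⟨T, hT⟩ := hV4.isPGroup.exists_le_sylow
      rw [Nat.card_congr (S.equiv T).toEquiv, ← hV4.1]
      exact Subgroup.card_le_of_le hT
  have hdX : HasDihedralSylow (H ⧸ Cfsg.oddCore H) := by
    have hcd := (h.hyp.cd.subgroup H).of_surjective f hfs
    obtain ⟨T, hT⟩ := hV4.isPGroup.exists_le_sylow
    intro T'
    rcases hcd T' with hc | hd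
    · exfalso
      haveI := hc
      haveI : IsCyclic (T : Subgroup (H ⧸ Cfsg.oddCore H)) :=
        isCyclic_of_injective (Sylow.equiv T T').toMonoidHom (MulEquiv.injective _)
      exact not_isCyclic_of_four hV4 (Subgroup.isCyclic_of_le hT)
    · exact hd
  have hfus : FusedIn V' ⊤ := by
    refine ⟨hV4, le_top, ?_⟩
    rintro _ ⟨v, hv, rfl⟩ hv1 _ ⟨w, hw, rfl⟩ hw1
    obtain ⟨g, hg, hgN, hgv⟩ := hF.2.2 v hv (fun e => hv1 (by rw [show v = 1 from Subtype.ext e, map_one]))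
      w hw (fun e => hw1 (by rw [show w = 1 from Subtype.ext e, map_one]))
    refine ⟨f ⟨g, hg⟩, trivial, Subgroup.le_normalizer_map f ⟨⟨g, hg⟩, ?_, rfl⟩, ?_⟩
    · exact Subgroup.mem_normalizer_fintype fun u hu =>
        Subgroup.mem_subgroupOf.2 ((Subgroup.mem_normalizer_iff.1 hgN _).1 (Subgroup.mem_subgroupOf.1 hu))
    · rw [← map_inv, ← map_mul, ← map_mul]
      exact congrArg f (Subtype.ext hgv)
  let t' : H := ⟨t, hVH h.t_mem⟩
  let a' : H := ⟨a, hVH h.a_mem⟩
  let z' : H := ⟨z, Subgroup.mem_centralizer_singleton_iff.2 hzx⟩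
  have hodd : ∀ u : H, (u : G) ∈ coreC t → Odd (orderOf (f u)) := fun u hu =>
    Odd.of_dvd_nat (core_odd h hu) ((orderOf_map_dvd f u).trans (by rw [Subgroup.orderOf_coe]))
  have hcomm : ∀ u : H, (u : G) ∈ coreC t → f u * f t' = f t' * f u := fun u hu => by
    rw [← map_mul, ← map_mul, show u * t' = t' * u from Subtype.ext ((ctx h).core_comm hu)]
  have hmov : f z' * f a' ≠ f a' * f z' := fun e => by
    have h1 : f a' * f z' * (f a')⁻¹ = (f z')⁻¹ := by
      rw [← map_inv, ← map_mul, ← map_mul, ← map_inv, show a' * z' * a'⁻¹ = z'⁻¹ from Subtype.ext hzi]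
    rw [← e, mul_inv_cancel_right] at h1
    exact hzc ⟨z', (QuotientGroup.eq_one_iff z').1 (eq_one_of_eq_inv (hodd z' hz) h1), rfl⟩
  have hne : f a' ≠ f t' := fun e => by
    have h1 : f (a' * t') = 1 := by
      rw [map_mul, e, ← map_mul, show t' * t' = 1 from Subtype.ext (h.four.2 t h.t_mem), map_one]
    refine h.ne ?_
    have h2 : a * t = 1 := congrArg Subtype.val (hinj _ (mul_mem h.a_mem h.t_mem) h1)
    calc a = a * (t * t) := by rw [h.four.2 t h.t_mem, mul_one]
      _ = t := by rw [← mul_assoc, h2, one_mul]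
  obtain ⟨T, q, ε, -, -, -, -, -, -, -, -, C, hC, -, hCmem⟩ :=
    hMK (H ⧸ Cfsg.oddCore H) V' (f t') (f a') (Cores.pPrimeCore_quotient_pPrimeCore 2) hdX hsmall
      (fun L N _ hs hna => known_sections_quotient h.hyp hHtop _ L N hs hna) hfus ⟨t', h.t_mem, rfl⟩
      ⟨a', h.a_mem, rfl⟩ (hfne t' h.t_mem h.t_ne) (hfne a' h.a_mem h.a_ne) hne
      ⟨f z', hodd z' hz, hcomm z' hz, hmov⟩
  refine ⟨C, hC, fun y hy hyi => hCmem (f y) (hodd y hy) (hcomm y hy) ?_⟩
  rw [← map_inv, ← map_mul, ← map_mul, ← map_inv, show a' * y * a'⁻¹ = y⁻¹ from Subtype.ext hyi]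

/-- Commuting inverted elements of order `r` in `C(x)` generate a cyclic group. -/
theorem mem_zpowers_of_inverted (hMK : PropModelKlein.{u}) {r : ℕ} (hr : r.Prime)
    (hrd : r ∣ Nat.card (coreV V)) {x : G} (hx : x ∈ coreV V) (hp : (orderOf x).Prime) {y z : G}
    (hy : y ∈ coreC t) (hz : z ∈ coreC t) (hyx : y * x = x * y) (hzx : z * x = x * z)
    (hyi : a * y * a⁻¹ = y⁻¹) (hzi : a * z * a⁻¹ = z⁻¹) (hyr : y ^ r = 1) (hzr : z ^ r = 1) (hz1 : z ≠ 1)
    (hyz : y * z = z * y) : y ∈ Subgroup.zpowers z := by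
  haveI := Fact.mk hr
  set H := Subgroup.centralizer ({x} : Set G) with hH
  let f : H →* H ⧸ Cfsg.oddCore H := QuotientGroup.mk' _
  have hzc : z ∉ coreOf H := fun hc => hz1 (not_mem_core h hr hrd hx hp hz ⟨1, by rw [pow_one, hzr]⟩ hzi hc)
  obtain ⟨C, hC, hCmem⟩ := exists_torus h hMK hx hp hz hzx hzi hzc
  let y' : H := ⟨y, Subgroup.mem_centralizer_singleton_iff.2 hyx⟩
  let z' : H := ⟨z, Subgroup.mem_centralizer_singleton_iff.2 hzx⟩
  haveI := hC
  have hzo : orderOf (⟨f z', hCmem z' hz hzi⟩ : C) = r := by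
    refine orderOf_eq_prime (Subtype.ext ?_) fun e => hzc ?_
    · show f z' ^ r = 1
      rw [← map_pow, show z' ^ r = 1 from Subtype.ext hzr, map_one]
    · exact ⟨z', (QuotientGroup.eq_one_iff z').1 (congrArg Subtype.val e), rfl⟩
  have hle : (⟨f y', hCmem y' hy hyi⟩ : C) ∈ Subgroup.zpowers (⟨f z', hCmem z' hz hzi⟩ : C) := by
    classical
    haveI := Fintype.ofFinite C
    set u : C := ⟨f z', hCmem z' hz hzi⟩
    have hsub : (Finset.univ.filter fun w : C => w ∈ Subgroup.zpowers u) ⊆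
        Finset.univ.filter fun w : C => w ^ r = 1 := by
      intro w hw
      obtain ⟨i, rfl⟩ := Subgroup.mem_zpowers_iff.1 (Finset.mem_filter.1 hw).2
      refine Finset.mem_filter.2 ⟨Finset.mem_univ _, ?_⟩
      rw [← hzo, ← zpow_natCast, ← zpow_mul, mul_comm, zpow_mul, zpow_natCast, pow_orderOf_eq_one,
        one_zpow]
    have heq := Finset.eq_of_subset_of_card_le hsub ((IsCyclic.card_pow_eq_one_le hr.pos).trans (by
      rw [← Fintype.card_subtype, ← Nat.card_eq_fintype_card, ← hzo, ← Nat.card_zpowers]))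
    have hmem : (⟨f y', hCmem y' hy hyi⟩ : C) ∈ Finset.univ.filter fun w : C => w ^ r = 1 :=
      Finset.mem_filter.2 ⟨Finset.mem_univ _, Subtype.ext (by
        show f y' ^ r = 1
        rw [← map_pow, show y' ^ r = 1 from Subtype.ext hyr, map_one])⟩
    rw [← heq] at hmem
    exact (Finset.mem_filter.1 hmem).2
  obtain ⟨i, hi⟩ := Subgroup.mem_zpowers_iff.1 hle
  have hi' : f z' ^ i = f y' := congrArg Subtype.val hi
  have hw : y * (z ^ i)⁻¹ ∈ coreOf H := by
    refine ⟨y' * (z' ^ i)⁻¹, ?_, rfl⟩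
    rw [SetLike.mem_coe, ← QuotientGroup.eq_one_iff]
    show f (y' * (z' ^ i)⁻¹) = 1
    rw [map_mul, map_inv, map_zpow, hi', mul_inv_cancel]
  have hcom : Commute y (z ^ i)⁻¹ := ((show Commute y z from hyz).zpow_right i).inv_right
  have hwi : a * (y * (z ^ i)⁻¹) * a⁻¹ = (y * (z ^ i)⁻¹)⁻¹ := by
    rw [show a * (y * (z ^ i)⁻¹) * a⁻¹ = a * y * a⁻¹ * (a * z ^ i * a⁻¹)⁻¹ by group, ← conj_zpow, hyi,
      hzi, hcom.mul_inv, inv_zpow]
  have hwr : (y * (z ^ i)⁻¹) ^ r ^ 1 = 1 := by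
    rw [pow_one, hcom.mul_pow, hyr, one_mul, inv_pow, ← zpow_natCast, ← zpow_mul, mul_comm, zpow_mul,
      zpow_natCast, hzr, one_zpow, inv_one]
  have h1 := not_mem_core h hr hrd hx hp (mul_mem hy (inv_mem (zpow_mem hz i))) ⟨1, hwr⟩ hwi hw
  exact Subgroup.mem_zpowers_iff.2 ⟨i, (mul_inv_eq_one.1 h1).symm⟩

/-- The images of inverted elements in `C(x)/O(C(x))` commute. -/
theorem commutator_mem_core (hMK : PropModelKlein.{u}) {x : G} (hx : x ∈ coreV V)
    (hp : (orderOf x).Prime) {y z : G} (hy : y ∈ coreC t) (hz : z ∈ coreC t) (hyx : y * x = x * y)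
    (hzx : z * x = x * z) (hyi : a * y * a⁻¹ = y⁻¹) (hzi : a * z * a⁻¹ = z⁻¹)
    (hzc : z ∉ coreOf (Subgroup.centralizer ({x} : Set G))) :
    y * z * y⁻¹ * z⁻¹ ∈ coreOf (Subgroup.centralizer ({x} : Set G)) := by
  set H := Subgroup.centralizer ({x} : Set G) with hH
  let f : H →* H ⧸ Cfsg.oddCore H := QuotientGroup.mk' _
  obtain ⟨C, hC, hCmem⟩ := exists_torus h hMK hx hp hz hzx hzi hzc
  let y' : H := ⟨y, Subgroup.mem_centralizer_singleton_iff.2 hyx⟩
  let z' : H := ⟨z, Subgroup.mem_centralizer_singleton_iff.2 hzx⟩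
  haveI := hC
  have hc : f y' * f z' = f z' * f y' := congrArg Subtype.val
    ((IsCyclic.commGroup (α := C)).mul_comm ⟨f y', hCmem y' hy hyi⟩ ⟨f z', hCmem z' hz hzi⟩)
  refine ⟨y' * z' * y'⁻¹ * z'⁻¹, ?_, rfl⟩
  rw [SetLike.mem_coe, ← QuotientGroup.eq_one_iff]
  show f (y' * z' * y'⁻¹ * z'⁻¹) = 1
  rw [map_mul, map_mul, map_mul, hc, map_inv, map_inv, mul_inv_cancel_right, mul_inv_cancel]

end Cfsg.Agent.Lib.GorensteinWalter.Four.Plane
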